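import Cfsg.Agent.ChevF.Lat
import Mathlib.Analysis.Complex.Polynomial.Basic

set_option autoImplicit false

/-!
Integral isometries of the root lattice of type E6 (helper19).
-/

namespace Cfsg.Agent.ChevF

open Matrix Polynomial

section ind

variable {l : ℕ}

lemma dot_mul_left (A : Matrix (Fin l) (Fin l) ℤ) (x w : Fin l → ℤ) : (A *ᵥ x) ⬝ᵥ w = x ⬝ᵥ (Aᵀ *ᵥ w) := by
  rw [Matrix.dotProduct_mulVec, Matrix.vecMul_transpose]

/-- an integral self-adjoint idempotent of an indecomposable positive definite even lattice generated by roots is trivial -/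
theorem ind_form {C π : Matrix (Fin l) (Fin l) ℤ} (heven : ∀ x : Fin l → ℤ, ∃ k, x ⬝ᵥ C *ᵥ x = 2 * k)
    (hpos : ∀ x : Fin l → ℤ, x ≠ 0 → 0 < x ⬝ᵥ C *ᵥ x) (hdiag : ∀ i, C i i = 2)
    (hconn : ∀ f : Fin l → Prop, (∀ i j, C i j ≠ 0 → f i → f j) → (∃ i, f i) → ∀ j, f j)
    (h1 : π * π = π) (h2 : πᵀ * C = C * π) : π = 0 ∨ π = 1 := by
  have hB : ∀ x y, (π *ᵥ x) ⬝ᵥ (C *ᵥ y) = x ⬝ᵥ (C *ᵥ (π *ᵥ y)) := by
    intro x y
    rw [dot_mul_left, Matrix.mulVec_mulVec, Matrix.mulVec_mulVec, h2]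
  have hππ : ∀ x, π *ᵥ (π *ᵥ x) = π *ᵥ x := fun x => by rw [Matrix.mulVec_mulVec, h1]
  have key : ∀ i, π *ᵥ (Pi.single i 1) = 0 ∨ π *ᵥ (Pi.single i 1) = Pi.single i 1 := by
    intro i
    obtain ⟨e, he⟩ : ∃ e : Fin l → ℤ, e = Pi.single i 1 := ⟨_, rfl⟩
    rw [← he]
    obtain ⟨a, ha⟩ : ∃ a, a = π *ᵥ e := ⟨_, rfl⟩
    obtain ⟨b, hb⟩ : ∃ b, b = e - a := ⟨_, rfl⟩
    have hee : e ⬝ᵥ (C *ᵥ e) = 2 := by
      rw [he, Matrix.mulVec_single_one, single_one_dotProduct]; exact hdiag i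
    have hπa : π *ᵥ a = a := by rw [ha, hππ]
    have hπb : π *ᵥ b = 0 := by rw [hb, Matrix.mulVec_sub, hπa, ← ha, sub_self]
    have h3 : a ⬝ᵥ (C *ᵥ b) = 0 := by
      rw [← hπa, hB, hπb, Matrix.mulVec_zero, dotProduct_zero]
    have h4 : b ⬝ᵥ (C *ᵥ a) = 0 := by
      rw [← hπa, ← hB, hπb, zero_dotProduct]
    have h5 : a ⬝ᵥ (C *ᵥ a) + b ⬝ᵥ (C *ᵥ b) = 2 := by
      have e1 : e = a + b := by rw [hb]; abel
      rw [e1, Matrix.mulVec_add, add_dotProduct, dotProduct_add, dotProduct_add, h3, h4] at hee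
      linarith
    by_contra hcon
    push Not at hcon
    rw [← ha] at hcon
    have ha0 : a ≠ 0 := hcon.1
    have hb0 : b ≠ 0 := by
      intro h0
      apply hcon.2
      rw [hb, sub_eq_zero] at h0
      exact h0.symm
    obtain ⟨k, hk⟩ := heven a
    obtain ⟨m, hm⟩ := heven b
    have h6 := hpos a ha0
    have h7 := hpos b hb0
    omega
  have hstep : ∀ i j, C i j ≠ 0 → π *ᵥ (Pi.single i 1) = Pi.single i 1 → π *ᵥ (Pi.single j 1) = Pi.single j 1 := by
    intro i j hij hi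
    rcases key j with h | h
    · exfalso
      apply hij
      have h3 := hB (Pi.single i 1) (Pi.single j 1)
      rw [hi, h, Matrix.mulVec_zero, dotProduct_zero, Matrix.mulVec_single_one, single_one_dotProduct] at h3
      exact h3
    · exact h
  by_cases hex : ∃ i, π *ᵥ (Pi.single i 1) = Pi.single i 1
  · right
    have h3 := hconn (fun i => π *ᵥ (Pi.single i 1) = Pi.single i 1) hstep hex
    ext i j
    have h4 := congrFun (h3 j) i
    rw [Matrix.mulVec_single_one] at h4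
    have h5 : π i j = (Pi.single j 1 : Fin l → ℤ) i := h4
    rw [h5, Matrix.one_apply, Pi.single_apply]
  · left
    push Not at hex
    ext i j
    have h4 := congrFun ((key j).resolve_right (hex j)) i
    rw [Matrix.mulVec_single_one] at h4
    exact h4

end ind

section cyc

variable {l : ℕ}

/-- a cyclic vector -/
theorem exists_poly {M : Matrix (Fin l) (Fin l) ℚ} {x : Fin l → ℚ} {P : ℚ[X]} (hdeg : P.natDegree = l)
    (hann : ∀ C : ℚ[X], (aeval M C) *ᵥ x = 0 → P ∣ C) (y : Fin l → ℚ) : ∃ C : ℚ[X], y = (aeval M C) *ᵥ x := by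
  have hsum : ∀ c : Fin l → ℚ, (aeval M (∑ i : Fin l, Polynomial.C (c i) * X ^ (i : ℕ))) *ᵥ x = ∑ i, c i • ((M ^ (i : ℕ)) *ᵥ x) := by
    intro c
    rw [map_sum, Matrix.sum_mulVec]
    refine Finset.sum_congr rfl fun i _ => ?_
    rw [map_mul, aeval_C, map_pow, aeval_X, Algebra.algebraMap_eq_smul_one, smul_mul_assoc, one_mul, Matrix.smul_mulVec]
  have hli : LinearIndependent ℚ (fun i : Fin l => (M ^ (i : ℕ)) *ᵥ x) := by
    rw [Fintype.linearIndependent_iff]
    intro c hc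
    by_contra hne
    push Not at hne
    set C : ℚ[X] := ∑ i : Fin l, Polynomial.C (c i) * X ^ (i : ℕ) with hC
    have h1 : (aeval M C) *ᵥ x = 0 := by rw [hC, hsum, hc]
    have hcoef : ∀ i : Fin l, C.coeff i = c i := by
      intro i
      rw [hC, finset_sum_coeff, Finset.sum_eq_single i]
      · simp
      · intro j _ hj
        rw [coeff_C_mul, coeff_X_pow, if_neg (by rw [Fin.val_inj]; exact Ne.symm hj), mul_zero]
      · intro h; exact absurd (Finset.mem_univ i) h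
    have hC0 : C ≠ 0 := by
      intro h0
      obtain ⟨i, hi⟩ := hne
      apply hi
      rw [← hcoef, h0, coeff_zero]
    have hdegC : C.natDegree < l := by
      obtain ⟨i, hi⟩ := hne
      have hl : 0 < l := lt_of_le_of_lt (Nat.zero_le _) i.2
      rw [Polynomial.natDegree_lt_iff_degree_lt hC0]
      refine lt_of_le_of_lt (Polynomial.degree_sum_le _ _) ?_
      rw [Finset.sup_lt_iff (by exact WithBot.bot_lt_coe l)]
      intro j _
      refine lt_of_le_of_lt (degree_C_mul_X_pow_le _ _) ?_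
      exact_mod_cast j.2
    have := Polynomial.natDegree_le_of_dvd (hann C h1) hC0
    omega
  by_cases hl : l = 0
  · subst hl
    exact ⟨0, funext fun i => i.elim0⟩
  haveI : Nonempty (Fin l) := ⟨⟨0, Nat.pos_of_ne_zero hl⟩⟩
  have hspan := hli.span_eq_top_of_card_eq_finrank (by simp)
  have hy : y ∈ Submodule.span ℚ (Set.range fun i : Fin l => (M ^ (i : ℕ)) *ᵥ x) := by rw [hspan]; trivial
  obtain ⟨c, hc⟩ := (Submodule.mem_span_range_iff_exists_fun ℚ).1 hy
  exact ⟨∑ i : Fin l, Polynomial.C (c i) * X ^ (i : ℕ), by rw [hsum]; exact hc.symm⟩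

/-- the annihilator of a vector killed by an irreducible polynomial -/
theorem dvd_of_kill {M : Matrix (Fin l) (Fin l) ℚ} {x : Fin l → ℚ} {P C : ℚ[X]} (hP : Irreducible P) (hx : x ≠ 0)
    (h : (aeval M P) *ᵥ x = 0) (hC : (aeval M C) *ᵥ x = 0) : P ∣ C := by
  by_contra hnd
  obtain ⟨a, b, hab⟩ := (hP.coprime_iff_not_dvd).2 hnd
  apply hx
  have h2 : (aeval M (1 : ℚ[X])) *ᵥ x = x := by rw [map_one, Matrix.one_mulVec]
  rw [← h2, ← hab, map_add, map_mul, map_mul, Matrix.add_mulVec, ← Matrix.mulVec_mulVec, ← Matrix.mulVec_mulVec, h, hC,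
    Matrix.mulVec_zero, Matrix.mulVec_zero, add_zero]

/-- two irreducible polynomials and the whole space -/
theorem exists_poly₂ {M : Matrix (Fin l) (Fin l) ℚ} {x z : Fin l → ℚ} {P R : ℚ[X]} (hP : Irreducible P) (hR : Irreducible R)
    (hPR : IsCoprime P R) (hdeg : (P * R).natDegree = l) (hx : x ≠ 0) (hz : z ≠ 0) (h : (aeval M P) *ᵥ x = 0)
    (h' : (aeval M R) *ᵥ z = 0) (y : Fin l → ℚ) : ∃ C : ℚ[X], y = (aeval M C) *ᵥ x + (aeval M C) *ᵥ z := by
  have hcomm : ∀ A B : ℚ[X], ∀ w : Fin l → ℚ, (aeval M A) *ᵥ ((aeval M B) *ᵥ w) = (aeval M B) *ᵥ ((aeval M A) *ᵥ w) := by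
    intro A B w
    rw [Matrix.mulVec_mulVec, Matrix.mulVec_mulVec, ← map_mul, ← map_mul, mul_comm]
  obtain ⟨C, hC⟩ := exists_poly (M := M) (x := x + z) hdeg (fun C hC => by
    rw [Matrix.mulVec_add] at hC
    have h1 : (aeval M R) *ᵥ ((aeval M C) *ᵥ x) = 0 := by
      have e1 : (aeval M C) *ᵥ x = - ((aeval M C) *ᵥ z) := eq_neg_of_add_eq_zero_left hC
      rw [e1, Matrix.mulVec_neg, hcomm, h', Matrix.mulVec_zero, neg_zero]
    have h2 : (aeval M P) *ᵥ ((aeval M C) *ᵥ z) = 0 := by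
      have e1 : (aeval M C) *ᵥ z = - ((aeval M C) *ᵥ x) := eq_neg_of_add_eq_zero_right hC
      rw [e1, Matrix.mulVec_neg, hcomm, h, Matrix.mulVec_zero, neg_zero]
    rw [Matrix.mulVec_mulVec, ← map_mul] at h1 h2
    have h3 := dvd_of_kill hP hx h h1
    have h4 := dvd_of_kill hR hz h' h2
    have h5 : P ∣ C := hPR.dvd_of_dvd_mul_left h3
    have h6 : R ∣ C := hPR.symm.dvd_of_dvd_mul_left h4
    exact hPR.mul_dvd h5 h6) y
  exact ⟨C, by rw [hC, Matrix.mulVec_add]⟩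

end cyc

section fin_order

variable {l : ℕ}

/-- roots of the characteristic polynomial of a matrix of finite order -/
lemma root_pow_eq_one {M : Matrix (Fin l) (Fin l) ℤ} {N : ℕ} (hM : M ^ N = 1) {z : ℂ}
    (hz : (M.charpoly.map (Int.castRingHom ℂ)).eval z = 0) : z ^ N = 1 := by
  rw [← Matrix.charpoly_map, Matrix.eval_charpoly] at hz
  obtain ⟨v, hv, h⟩ := Matrix.exists_mulVec_eq_zero_iff.2 hz
  set Mc := M.map (Int.castRingHom ℂ) with hMc
  have h1 : Mc *ᵥ v = z • v := by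
    rw [Matrix.sub_mulVec, sub_eq_zero] at h
    rw [← h, Matrix.scalar_apply]
    funext i
    rw [Matrix.mulVec_diagonal]; rfl
  have h2 : ∀ k : ℕ, (Mc ^ k) *ᵥ v = z ^ k • v := by
    intro k
    induction k with
    | zero => simp
    | succ k ih => rw [pow_succ, ← Matrix.mulVec_mulVec, h1, Matrix.mulVec_smul, ih, smul_smul, pow_succ, mul_comm]
  have h3 : Mc ^ N = 1 := by
    have : Mc ^ N = (M ^ N).map (Int.castRingHom ℂ) := by
      rw [hMc]; exact (map_pow (RingHom.mapMatrix (Int.castRingHom ℂ)) M N).symm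
    rw [this, hM]
    exact map_one (RingHom.mapMatrix (m := Fin l) (Int.castRingHom ℂ))
  have h4 := h2 N
  rw [h3, Matrix.one_mulVec] at h4
  obtain ⟨i, hi⟩ := Function.ne_iff.1 hv
  have h5 := congrFun h4 i
  rw [Pi.smul_apply, smul_eq_mul] at h5
  have h6 : (z ^ N - 1) * v i = 0 := by rw [sub_mul, ← h5, one_mul, sub_self]
  rcases mul_eq_zero.1 h6 with h7 | h7
  · exact sub_eq_zero.1 h7
  · exact absurd h7 hi

/-- quadratic factors of the characteristic polynomial of a matrix of finite order -/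
lemma quad_factor {b c : ℤ} (h : ∀ z : ℂ, z ^ 2 + b * z + c = 0 → ‖z‖ = 1) :
    (c = 1 ∧ -2 ≤ b ∧ b ≤ 2) ∨ (c = -1 ∧ b = 0) := by
  obtain ⟨s, hs⟩ := IsAlgClosed.exists_pow_nat_eq ((b : ℂ) ^ 2 - 4 * c) (n := 2) (by norm_num)
  set z : ℂ := (-b + s) / 2 with hz
  set w : ℂ := (-b - s) / 2 with hw
  have h1 : z ^ 2 + b * z + c = 0 := by
    rw [hz]
    have : ((-(b : ℂ) + s) / 2) ^ 2 + b * ((-b + s) / 2) + c = (s ^ 2 - (b ^ 2 - 4 * c)) / 4 := by ring
    rw [this, hs]; ring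
  have h2 : w ^ 2 + b * w + c = 0 := by
    rw [hw]
    have : ((-(b : ℂ) - s) / 2) ^ 2 + b * ((-b - s) / 2) + c = (s ^ 2 - (b ^ 2 - 4 * c)) / 4 := by ring
    rw [this, hs]; ring
  have hzw : z * w = c := by
    rw [hz, hw]
    have : (-(b : ℂ) + s) / 2 * ((-b - s) / 2) = (b ^ 2 - s ^ 2) / 4 := by ring
    rw [this, hs]; ring
  have hzw2 : z + w = -b := by rw [hz, hw]; ring
  have n1 := h z h1
  have n2 := h w h2
  have hc : |c| = 1 := by
    have : ‖(c : ℂ)‖ = 1 := by rw [← hzw, norm_mul, n1, n2, one_mul]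
    rw [Complex.norm_intCast] at this
    exact_mod_cast this
  have hb : |b| ≤ 2 := by
    have h3 : ‖(b : ℂ)‖ ≤ 2 := by
      have e : (b : ℂ) = -(z + w) := by rw [hzw2]; ring
      rw [e, norm_neg]
      calc ‖z + w‖ ≤ ‖z‖ + ‖w‖ := norm_add_le _ _
        _ = 2 := by rw [n1, n2]; norm_num
    rw [Complex.norm_intCast] at h3
    exact_mod_cast h3
  rcases (abs_eq (by norm_num : (0 : ℤ) ≤ 1)).1 hc with h3 | h3
  · left
    exact ⟨h3, (abs_le.1 hb).1, (abs_le.1 hb).2⟩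
  · right
    refine ⟨h3, ?_⟩
    -- conjugate root
    have hz0 : z ≠ 0 := by
      intro h0
      rw [h0, norm_zero] at n1
      exact zero_ne_one n1
    have hconj : (starRingEnd ℂ) z * z = 1 := by
      rw [← Complex.normSq_eq_conj_mul_self, Complex.normSq_eq_norm_sq, n1]
      norm_num
    have h4 : ((starRingEnd ℂ) z) ^ 2 + b * ((starRingEnd ℂ) z) + c = 0 := by
      have := congrArg (starRingEnd ℂ) h1
      simpa using this
    have h5 : 1 + b * z + c * z ^ 2 = 0 := by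
      have e : (((starRingEnd ℂ) z) ^ 2 + b * ((starRingEnd ℂ) z) + c) * z ^ 2 =
          ((starRingEnd ℂ) z * z) ^ 2 + b * ((starRingEnd ℂ) z * z) * z + c * z ^ 2 := by ring
      rw [h4, hconj, zero_mul] at e
      linear_combination -e
    rw [h3] at h5 h1
    push_cast at h5 h1
    have h6 : (b : ℂ) * z = 0 := by linear_combination (h5 + h1) / 2
    rcases mul_eq_zero.1 h6 with h7 | h7
    · exact_mod_cast h7
    · exact absurd h7 hz0

end fin_order

end Cfsg.Agent.ChevF
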