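import Cfsg.Agent.ChevF.E6L

set_option autoImplicit false

/-!
Weyl group elements of type E6 with a primitive 12-th root of unity as eigenvalue (helper19).
-/

namespace Cfsg.Agent.ChevF

open Matrix Polynomial

/-- the Cartan matrix of type E6 -/
def CE6 : Matrix (Fin 6) (Fin 6) ℤ :=
  !![2, 0, -1, 0, 0, 0; 0, 2, 0, -1, 0, 0; -1, 0, 2, -1, 0, 0; 0, -1, -1, 2, -1, 0; 0, 0, 0, -1, 2, -1; 0, 0, 0, 0, -1, 2]

lemma CE6_form (x : Fin 6 → ℤ) : x ⬝ᵥ (CE6 *ᵥ x) =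
    2 * (x 0 ^ 2 + x 1 ^ 2 + x 2 ^ 2 + x 3 ^ 2 + x 4 ^ 2 + x 5 ^ 2 - x 0 * x 2 - x 1 * x 3 - x 2 * x 3 - x 3 * x 4 - x 4 * x 5) := by
  simp only [dotProduct, Matrix.mulVec, Fin.sum_univ_six, CE6, Matrix.of_apply, Matrix.cons_val', Matrix.cons_val_zero,
    Matrix.cons_val_one, Matrix.cons_val]
  ring

lemma CE6_pos (x : Fin 6 → ℤ) (hx : x ≠ 0) : 0 < x ⬝ᵥ (CE6 *ᵥ x) := by
  rw [CE6_form]
  by_contra hcon
  have key : 12 * (x 0 ^ 2 + x 1 ^ 2 + x 2 ^ 2 + x 3 ^ 2 + x 4 ^ 2 + x 5 ^ 2 - x 0 * x 2 - x 1 * x 3 - x 2 * x 3 - x 3 * x 4 - x 4 * x 5) =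
      3 * (2 * x 0 - x 2) ^ 2 + (3 * x 2 - 2 * x 3) ^ 2 + 3 * (2 * x 5 - x 4) ^ 2 + (3 * x 4 - 2 * x 3) ^ 2 +
        3 * (2 * x 1 - x 3) ^ 2 + x 3 ^ 2 := by ring
  have h1 := sq_nonneg (2 * x 0 - x 2)
  have h2 := sq_nonneg (3 * x 2 - 2 * x 3)
  have h3 := sq_nonneg (2 * x 5 - x 4)
  have h4 := sq_nonneg (3 * x 4 - 2 * x 3)
  have h5 := sq_nonneg (2 * x 1 - x 3)
  have h6 := sq_nonneg (x 3)
  have e6 : x 3 = 0 := by
    have : x 3 ^ 2 = 0 := by linarith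
    exact pow_eq_zero_iff (two_ne_zero) |>.1 this
  have e2 : 3 * x 2 - 2 * x 3 = 0 := by
    have : (3 * x 2 - 2 * x 3) ^ 2 = 0 := by linarith
    exact pow_eq_zero_iff (two_ne_zero) |>.1 this
  have e4 : 3 * x 4 - 2 * x 3 = 0 := by
    have : (3 * x 4 - 2 * x 3) ^ 2 = 0 := by linarith
    exact pow_eq_zero_iff (two_ne_zero) |>.1 this
  have e1 : 2 * x 0 - x 2 = 0 := by
    have : (2 * x 0 - x 2) ^ 2 = 0 := by linarith
    exact pow_eq_zero_iff (two_ne_zero) |>.1 this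
  have e3 : 2 * x 5 - x 4 = 0 := by
    have : (2 * x 5 - x 4) ^ 2 = 0 := by linarith
    exact pow_eq_zero_iff (two_ne_zero) |>.1 this
  have e5 : 2 * x 1 - x 3 = 0 := by
    have : (2 * x 1 - x 3) ^ 2 = 0 := by linarith
    exact pow_eq_zero_iff (two_ne_zero) |>.1 this
  apply hx
  funext i
  rw [Pi.zero_apply]
  fin_cases i
  · show x 0 = 0; omega
  · show x 1 = 0; omega
  · show x 2 = 0; omega
  · show x 3 = 0; omega
  · show x 4 = 0; omega
  · show x 5 = 0; omega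

lemma CE6_sym : CE6ᵀ = CE6 := by decide

lemma ind6 {π : Matrix (Fin 6) (Fin 6) ℤ} (h1 : π * π = π) (h2 : πᵀ * CE6 = CE6 * π) : π = 0 ∨ π = 1 := by
  refine ind_form (C := CE6) (fun x => ⟨_, CE6_form x⟩) CE6_pos (by decide) ?_ h1 h2
  intro f hf ⟨i, hi⟩
  have h02 : CE6 0 2 ≠ 0 := by decide
  have h20 : CE6 2 0 ≠ 0 := by decide
  have h13 : CE6 1 3 ≠ 0 := by decide
  have h31 : CE6 3 1 ≠ 0 := by decide
  have h23 : CE6 2 3 ≠ 0 := by decide
  have h32 : CE6 3 2 ≠ 0 := by decide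
  have h34 : CE6 3 4 ≠ 0 := by decide
  have h43 : CE6 4 3 ≠ 0 := by decide
  have h45 : CE6 4 5 ≠ 0 := by decide
  have h54 : CE6 5 4 ≠ 0 := by decide
  have h3 : f 3 := by
    fin_cases i
    · exact hf _ _ h23 (hf _ _ h02 hi)
    · exact hf _ _ h13 hi
    · exact hf _ _ h23 hi
    · exact hi
    · exact hf _ _ h43 hi
    · exact hf _ _ h43 (hf _ _ h54 hi)
  intro j
  fin_cases j
  · exact hf _ _ h20 (hf _ _ h32 h3)
  · exact hf _ _ h31 h3
  · exact hf _ _ h32 h3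
  · exact h3
  · exact hf _ _ h34 h3
  · exact hf _ _ h45 (hf _ _ h34 h3)

lemma cyc12 (R : Type*) [CommRing R] : cyclotomic 12 R = X ^ 4 - X ^ 2 + 1 := by
  have h := Polynomial.cyclotomic_expand_eq_cyclotomic (p := 2) (n := 6) Nat.prime_two (by norm_num) R
  norm_num at h
  rw [← h]
  ring

section

variable {M : Matrix (Fin 6) (Fin 6) ℤ}

lemma aeval12 (M : Matrix (Fin 6) (Fin 6) ℤ) : aeval M (cyclotomic 12 ℤ) = M ^ 4 - M ^ 2 + 1 := by
  rw [cyc12]; simp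

/-- no nonzero fixed vectors -/
lemma no_fix6 (hC : Mᵀ * CE6 * M = CE6) {N : ℕ} (hN : 0 < N) (hM : M ^ N = 1)
    (hρ : (M.map (Int.castRingHom (ZMod 3))) *ᵥ ![1, 0, 2, 0, 1, 2] = ![1, 0, 2, 0, 1, 2]) {v : Fin 6 → ℤ} (hv : v ≠ 0)
    (h : (M ^ 4 - M ^ 2 + 1) *ᵥ v = 0) (hA : (M ^ 4 - M ^ 2 + 1) * (M ^ 2 - 1) = 0) : False := by
  obtain ⟨A, hAd⟩ : ∃ A, A = M ^ 4 - M ^ 2 + 1 := ⟨_, rfl⟩
  rw [← hAd] at h hA
  have hAA : A * A = A := by
    have : A * A = A + A * (M ^ 2 - 1) * M ^ 2 := by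
      conv_lhs => rhs; rw [hAd]
      noncomm_ring
    rw [this, hA, zero_mul, add_zero]
  have hAM : A * M ^ 2 = A := by
    have : A * M ^ 2 = A + A * (M ^ 2 - 1) := by noncomm_ring
    rw [this, hA, add_zero]
  have hAM4 : A * M ^ 4 = A := by
    have : A * M ^ 4 = A * M ^ 2 * M ^ 2 := by noncomm_ring
    rw [this, hAM, hAM]
  have c1 : (Mᵀ) ^ 2 * CE6 * M ^ 2 = CE6 := by
    have : (Mᵀ) ^ 2 * CE6 * M ^ 2 = Mᵀ * (Mᵀ * CE6 * M) * M := by noncomm_ring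
    rw [this, hC, hC]
  have c2 : (Mᵀ) ^ 4 * CE6 * M ^ 4 = CE6 := by
    have : (Mᵀ) ^ 4 * CE6 * M ^ 4 = (Mᵀ) ^ 2 * ((Mᵀ) ^ 2 * CE6 * M ^ 2) * M ^ 2 := by noncomm_ring
    rw [this, c1, c1]
  have hAt : Aᵀ = (Mᵀ) ^ 4 - (Mᵀ) ^ 2 + 1 := by
    rw [hAd, Matrix.transpose_add, Matrix.transpose_sub, Matrix.transpose_pow, Matrix.transpose_pow, Matrix.transpose_one]
  have hsym4 : (Aᵀ * CE6) * M ^ 4 = (CE6 * A) * M ^ 4 := by
    rw [Matrix.mul_assoc CE6, hAM4, hAt]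
    have : ((Mᵀ) ^ 4 - (Mᵀ) ^ 2 + 1) * CE6 * M ^ 4 = (Mᵀ) ^ 4 * CE6 * M ^ 4 - ((Mᵀ) ^ 2 * CE6 * M ^ 2) * M ^ 2 + CE6 * M ^ 4 := by
      noncomm_ring
    rw [this, c1, c2, hAd]
    noncomm_ring
  have hsym : Aᵀ * CE6 = CE6 * A := by
    have h1 : M ^ 4 * M ^ (N * 4 - 4) = 1 := by
      rw [← pow_add, show 4 + (N * 4 - 4) = N * 4 by omega, pow_mul, hM, one_pow]
    calc Aᵀ * CE6 = (Aᵀ * CE6) * M ^ 4 * M ^ (N * 4 - 4) := by rw [mul_assoc _ (M ^ 4), h1, mul_one]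
      _ = (CE6 * A) * M ^ 4 * M ^ (N * 4 - 4) := by rw [hsym4]
      _ = CE6 * A := by rw [mul_assoc _ (M ^ 4), h1, mul_one]
  rcases ind6 hAA hsym with h0 | h0
  · -- reduction mod 3
    set Mr := M.map (Int.castRingHom (ZMod 3)) with hMr
    have h1 : (A.map (Int.castRingHom (ZMod 3))) = Mr ^ 4 - Mr ^ 2 + 1 := by
      have := congrArg (RingHom.mapMatrix (m := Fin 6) (Int.castRingHom (ZMod 3))) hAd
      rw [map_add, map_sub, map_pow, map_pow, map_one] at this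
      exact this
    have h2 : ∀ k : ℕ, Mr ^ k *ᵥ ![1, 0, 2, 0, 1, 2] = ![1, 0, 2, 0, 1, 2] := by
      intro k
      induction k with
      | zero => rw [pow_zero, Matrix.one_mulVec]
      | succ k ih => rw [pow_succ, ← Matrix.mulVec_mulVec, hρ, ih]
    have h3 : (A.map (Int.castRingHom (ZMod 3))) *ᵥ ![1, 0, 2, 0, 1, 2] = ![1, 0, 2, 0, 1, 2] := by
      rw [h1, Matrix.add_mulVec, Matrix.sub_mulVec, h2, h2, Matrix.one_mulVec, sub_self, zero_add]
    have h4 : A.map (Int.castRingHom (ZMod 3)) = 0 := by rw [h0]; exact map_zero (RingHom.mapMatrix (m := Fin 6) (Int.castRingHom (ZMod 3)))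
    rw [h4, Matrix.zero_mulVec] at h3
    have := congrFun h3 0
    revert this; decide
  · rw [h0, Matrix.one_mulVec] at h
    exact hv h

/-- the characteristic polynomial -/
theorem charpoly6 (hC : Mᵀ * CE6 * M = CE6) {N : ℕ} (hN : 0 < N) (hM : M ^ N = 1)
    (hρ : (M.map (Int.castRingHom (ZMod 3))) *ᵥ ![1, 0, 2, 0, 1, 2] = ![1, 0, 2, 0, 1, 2]) {v : Fin 6 → ℤ} (hv : v ≠ 0)
    (h : (aeval M (cyclotomic 12 ℤ)) *ᵥ v = 0) : M.charpoly = cyclotomic 12 ℤ * cyclotomic 3 ℤ := by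
  have h' := h
  rw [aeval12] at h'
  -- divisibility
  set Mq := M.map (Int.castRingHom ℚ) with hMq
  have haev : ∀ p : ℤ[X], (aeval M p).map (Int.castRingHom ℚ) = aeval Mq (p.map (Int.castRingHom ℚ)) := fun p =>
    Polynomial.map_aeval_eq_aeval_map (R := ℤ) (S := Matrix (Fin 6) (Fin 6) ℤ) (T := ℚ)
        (U := Matrix (Fin 6) (Fin 6) ℚ) (φ := Int.castRingHom ℚ)
        (ψ := RingHom.mapMatrix (m := Fin 6) (Int.castRingHom ℚ)) (by ext; simp) p M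
  have hvq : (aeval Mq (cyclotomic 12 ℚ)) *ᵥ (fun i => ((v i : ℤ) : ℚ)) = 0 := by
    rw [← map_cyclotomic 12 (Int.castRingHom ℚ), ← haev]
    funext i
    have h6 := congrFun h i
    simp only [mulVec, dotProduct, Pi.zero_apply] at h6 ⊢
    have h7 := congrArg (Int.cast : ℤ → ℚ) h6
    push_cast at h7
    exact h7
  have hvq0 : (fun i => ((v i : ℤ) : ℚ)) ≠ 0 := by
    intro h0
    apply hv
    funext i
    have := congrFun h0 i
    simpa using this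
  have hdq : cyclotomic 12 ℚ ∣ Mq.charpoly := by
    apply dvd_of_kill (cyclotomic.irreducible_rat (by norm_num)) hvq0 hvq
    rw [Matrix.aeval_self_charpoly, Matrix.zero_mulVec]
  have hd : cyclotomic 12 ℤ ∣ M.charpoly := by
    rw [← Polynomial.map_dvd_map (Int.castRingHom ℚ) Int.cast_injective (cyclotomic.monic 12 ℤ), map_cyclotomic,
      ← Matrix.charpoly_map]
    exact hdq
  obtain ⟨g, hg⟩ := hd
  have hgm : g.Monic := Monic.of_mul_monic_left (cyclotomic.monic 12 ℤ) (by rw [← hg]; exact Matrix.charpoly_monic M)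
  have hgd : g.natDegree = 2 := by
    have h1 := Matrix.charpoly_natDegree_eq_dim M
    rw [hg, Monic.natDegree_mul (cyclotomic.monic 12 ℤ) hgm, natDegree_cyclotomic, Fintype.card_fin] at h1
    have h2 : Nat.totient 12 = 4 := by decide
    omega
  obtain ⟨b, c, hgbc⟩ : ∃ b c : ℤ, g = X ^ 2 + C b * X + C c := by
    refine ⟨g.coeff 1, g.coeff 0, ?_⟩
    have h1 := g.as_sum_range' 3 (by omega)
    rw [Finset.sum_range_succ, Finset.sum_range_succ, Finset.sum_range_one] at h1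
    have h2 : g.coeff 2 = 1 := by rw [← hgd]; exact hgm.coeff_natDegree
    rw [h2] at h1
    conv_lhs => rw [h1]
    simp only [← C_mul_X_pow_eq_monomial]
    simp
    ring
  rw [hgbc, cyc12] at hg
  -- roots of unity
  have hbc := quad_factor (b := b) (c := c) (fun z hz => by
    have h1 : (M.charpoly.map (Int.castRingHom ℂ)).eval z = 0 := by
      rw [hg, Polynomial.map_mul, eval_mul]
      have h2 : eval z (Polynomial.map (Int.castRingHom ℂ) (X ^ 2 + C b * X + C c)) = 0 := by simpa using hz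
      rw [h2, mul_zero]
    exact Complex.norm_eq_one_of_pow_eq_one (root_pow_eq_one hM h1) hN.ne')
  -- reduction mod 3
  have h3 : ((1 + b + c : ℤ) : ZMod 3) = 0 := by
    have h1 : (M.charpoly.map (Int.castRingHom (ZMod 3))).eval 1 = 0 := by
      rw [← Matrix.charpoly_map, Matrix.eval_charpoly]
      apply Matrix.exists_mulVec_eq_zero_iff.1
      refine ⟨![1, 0, 2, 0, 1, 2], by decide, ?_⟩
      rw [map_one, Matrix.sub_mulVec, Matrix.one_mulVec, hρ, sub_self]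
    rw [hg] at h1
    push_cast
    simpa using h1
  rw [ZMod.intCast_zmod_eq_zero_iff_dvd] at h3
  have hCH : (M ^ 4 - M ^ 2 + 1) * (M ^ 2 + b • M + c • (1 : Matrix (Fin 6) (Fin 6) ℤ)) = 0 := by
    have h1 := Matrix.aeval_self_charpoly M
    rw [hg] at h1
    simpa [Algebra.algebraMap_eq_smul_one, Algebra.smul_def] using h1
  have hcases : (b = -2 ∧ c = 1) ∨ (b = 0 ∧ c = -1) ∨ (b = 1 ∧ c = 1) := by
    rcases hbc with ⟨h1, h2, h4⟩ | ⟨h1, h2⟩
    · subst h1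
      obtain ⟨k, hk⟩ := h3
      push_cast at hk
      omega
    · right; left; exact ⟨h2, h1⟩
  rcases hcases with ⟨rfl, rfl⟩ | ⟨rfl, rfl⟩ | ⟨rfl, rfl⟩
  · exfalso
    obtain ⟨A, hAd⟩ : ∃ A, A = M ^ 4 - M ^ 2 + 1 := ⟨_, rfl⟩
    rw [← hAd] at hCH
    have h1 : A * (M - 1) * M = A * (M - 1) := by
      have : A * (M - 1) * M = A * (M - 1) + A * (M ^ 2 + (-2 : ℤ) • M + (1 : ℤ) • (1 : Matrix (Fin 6) (Fin 6) ℤ)) := by
        noncomm_ring
      rw [this, hCH, add_zero]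
    have h2 : ∀ k : ℕ, A * (M - 1) * M ^ k = A * (M - 1) := by
      intro k
      induction k with
      | zero => rw [pow_zero, mul_one]
      | succ k ih => rw [pow_succ, ← mul_assoc, ih, h1]
    have h4 : A * (M - 1) * (∑ k ∈ Finset.range N, M ^ k) = 0 := by
      rw [mul_assoc, mul_geom_sum, hM, sub_self, mul_zero]
    rw [Finset.mul_sum, Finset.sum_congr rfl (fun k _ => h2 k), Finset.sum_const, Finset.card_range] at h4
    have h5 : A * (M - 1) = 0 := by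
      ext i j
      have h6 := congrFun (congrFun h4 i) j
      rw [Matrix.smul_apply, Matrix.zero_apply, nsmul_eq_mul] at h6
      rcases mul_eq_zero.1 h6 with h7 | h7
      · exact absurd (by exact_mod_cast h7) hN.ne'
      · exact h7
    apply no_fix6 hC hN hM hρ hv h'
    rw [← hAd]
    have : A * (M ^ 2 - 1) = A * (M - 1) * (M + 1) := by noncomm_ring
    rw [this, h5, zero_mul]
  · exfalso
    apply no_fix6 hC hN hM hρ hv h'
    rw [← hCH]
    congr 1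
    rw [zero_smul, neg_smul, one_smul, add_zero, sub_eq_add_neg]
  · rw [hg, cyc12, cyclotomic_three]
    simp

end

end Cfsg.Agent.ChevF
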