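import Cfsg.Agent.ChevF.E6L2

set_option autoImplicit false

/-!
No roots in the plane complementary to the primitive 12-th roots of unity (helper19).
-/

namespace Cfsg.Agent.ChevF

open Matrix Polynomial

section

variable {l : ℕ}

lemma dot_inv {R : Type*} [CommRing R] {M C : Matrix (Fin l) (Fin l) R} (h : Mᵀ * C * M = C) (x y : Fin l → R) :
    (M *ᵥ x) ⬝ᵥ (C *ᵥ (M *ᵥ y)) = x ⬝ᵥ (C *ᵥ y) := by
  have h1 : (M *ᵥ x) ⬝ᵥ (C *ᵥ (M *ᵥ y)) = x ⬝ᵥ (Mᵀ *ᵥ (C *ᵥ (M *ᵥ y))) := by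
    rw [Matrix.dotProduct_mulVec x, Matrix.vecMul_transpose]
  rw [h1, Matrix.mulVec_mulVec, Matrix.mulVec_mulVec, h]

lemma dot_comm_of_sym {R : Type*} [CommRing R] {C : Matrix (Fin l) (Fin l) R} (h : Cᵀ = C) (x y : Fin l → R) :
    x ⬝ᵥ (C *ᵥ y) = y ⬝ᵥ (C *ᵥ x) := by
  rw [Matrix.dotProduct_mulVec, dotProduct_comm, ← Matrix.mulVec_transpose, h]

/-- the rational vector of an integral vector -/
def qv (x : Fin l → ℤ) : Fin l → ℚ := fun i => (x i : ℚ)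

/-- the rational matrix of an integral matrix -/
def qm (A : Matrix (Fin l) (Fin l) ℤ) : Matrix (Fin l) (Fin l) ℚ := A.map (Int.castRingHom ℚ)

lemma qm_mul (A B : Matrix (Fin l) (Fin l) ℤ) : qm (A * B) = qm A * qm B :=
  map_mul (RingHom.mapMatrix (m := Fin l) (Int.castRingHom ℚ)) A B
lemma qm_pow (A : Matrix (Fin l) (Fin l) ℤ) (k : ℕ) : qm (A ^ k) = qm A ^ k :=
  map_pow (RingHom.mapMatrix (m := Fin l) (Int.castRingHom ℚ)) A k
lemma qm_add (A B : Matrix (Fin l) (Fin l) ℤ) : qm (A + B) = qm A + qm B :=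
  map_add (RingHom.mapMatrix (m := Fin l) (Int.castRingHom ℚ)) A B
lemma qm_sub (A B : Matrix (Fin l) (Fin l) ℤ) : qm (A - B) = qm A - qm B :=
  map_sub (RingHom.mapMatrix (m := Fin l) (Int.castRingHom ℚ)) A B
lemma qm_neg (A : Matrix (Fin l) (Fin l) ℤ) : qm (-A) = -qm A :=
  map_neg (RingHom.mapMatrix (m := Fin l) (Int.castRingHom ℚ)) A
lemma qm_one : qm (1 : Matrix (Fin l) (Fin l) ℤ) = 1 :=
  map_one (RingHom.mapMatrix (m := Fin l) (Int.castRingHom ℚ))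
lemma qm_zero : qm (0 : Matrix (Fin l) (Fin l) ℤ) = 0 :=
  map_zero (RingHom.mapMatrix (m := Fin l) (Int.castRingHom ℚ))
lemma qm_transpose (A : Matrix (Fin l) (Fin l) ℤ) : qm Aᵀ = (qm A)ᵀ := rfl

lemma qm_mulVec (A : Matrix (Fin l) (Fin l) ℤ) (x : Fin l → ℤ) : qm A *ᵥ qv x = qv (A *ᵥ x) := by
  funext i
  simp only [qm, qv, mulVec, dotProduct, Matrix.map_apply, eq_intCast]
  push_cast
  rfl

lemma qm_aeval (A : Matrix (Fin l) (Fin l) ℤ) (p : ℤ[X]) : qm (aeval A p) = aeval (qm A) (p.map (Int.castRingHom ℚ)) :=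
  Polynomial.map_aeval_eq_aeval_map (R := ℤ) (S := Matrix (Fin l) (Fin l) ℤ) (T := ℚ)
        (U := Matrix (Fin l) (Fin l) ℚ) (φ := Int.castRingHom ℚ)
        (ψ := RingHom.mapMatrix (m := Fin l) (Int.castRingHom ℚ)) (by ext; simp) p A

lemma qv_inj {x y : Fin l → ℤ} (h : qv x = qv y) : x = y := by
  funext i
  have := congrFun h i
  simpa [qv] using this

lemma qv_zero : qv (0 : Fin l → ℤ) = 0 := by funext i; simp [qv]

lemma qv_dot (x y : Fin l → ℤ) : qv x ⬝ᵥ qv y = ((x ⬝ᵥ y : ℤ) : ℚ) := by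
  simp only [qv, dotProduct]; push_cast; rfl

lemma qm_ext {A B : Matrix (Fin l) (Fin l) ℤ} (h : ∀ y, qm A *ᵥ y = qm B *ᵥ y) : A = B := by
  ext i j
  have h1 := congrFun (h (Pi.single j 1)) i
  rw [Matrix.mulVec_single_one, Matrix.mulVec_single_one] at h1
  have h2 : ((A i j : ℤ) : ℚ) = ((B i j : ℤ) : ℚ) := h1
  exact_mod_cast h2

end

/-- decomposition of the rational space -/
theorem decomp6 {M : Matrix (Fin 6) (Fin 6) ℤ} {v α : Fin 6 → ℤ} (hv : v ≠ 0) (hα : α ≠ 0)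
    (h : (aeval M (cyclotomic 12 ℤ)) *ᵥ v = 0) (h3 : (aeval M (cyclotomic 3 ℤ)) *ᵥ α = 0) (y : Fin 6 → ℚ) :
    ∃ C : ℚ[X], y = (aeval (qm M) C) *ᵥ (qv v) + (aeval (qm M) C) *ᵥ (qv α) := by
  have i1 : Irreducible (cyclotomic 12 ℚ) := cyclotomic.irreducible_rat (by norm_num)
  have i2 : Irreducible (cyclotomic 3 ℚ) := cyclotomic.irreducible_rat (by norm_num)
  refine exists_poly₂ i1 i2 ?_ ?_ ?_ ?_ ?_ ?_ y
  · exact cyclotomic.isCoprime_rat (by norm_num)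
  · rw [Monic.natDegree_mul (cyclotomic.monic _ _) (cyclotomic.monic _ _), natDegree_cyclotomic, natDegree_cyclotomic]
    decide
  · intro h0; exact hv (qv_inj (by rw [h0, qv_zero]))
  · intro h0; exact hα (qv_inj (by rw [h0, qv_zero]))
  · rw [← map_cyclotomic 12 (Int.castRingHom ℚ), ← qm_aeval, qm_mulVec, h, qv_zero]
  · rw [← map_cyclotomic 3 (Int.castRingHom ℚ), ← qm_aeval, qm_mulVec, h3, qv_zero]

section

variable {M : Matrix (Fin 6) (Fin 6) ℤ}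

/-- orthogonality of the two parts -/
lemma orth6 (hC : Mᵀ * CE6 * M = CE6) {α : Fin 6 → ℤ} (h3 : (M ^ 2 + M + 1) *ᵥ α = 0) {y : Fin 6 → ℚ}
    (hy : (qm M ^ 4 - qm M ^ 2 + 1) *ᵥ y = 0) :
    (qv α) ⬝ᵥ (qm CE6 *ᵥ y) = 0 ∧ (qv (M *ᵥ α)) ⬝ᵥ (qm CE6 *ᵥ y) = 0 := by
  have hCq : (qm M)ᵀ * qm CE6 * qm M = qm CE6 := by rw [← qm_transpose, ← qm_mul, ← qm_mul, hC]
  have hinv := dot_inv hCq
  obtain ⟨a, ha⟩ : ∃ a, a = qv α := ⟨_, rfl⟩
  obtain ⟨b, hb⟩ : ∃ b, b = qv (M *ᵥ α) := ⟨_, rfl⟩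
  have e1 : qm M *ᵥ a = b := by rw [ha, hb, qm_mulVec]
  have e2 : qm M *ᵥ b = -a - b := by
    have h4 := congrArg qv h3
    rw [qv_zero, ← qm_mulVec, qm_add, qm_add, qm_pow, qm_one, Matrix.add_mulVec, Matrix.add_mulVec, Matrix.one_mulVec, pow_two,
      ← Matrix.mulVec_mulVec, ← ha, e1] at h4
    linear_combination h4
  have e3 : qm M *ᵥ (-a - b) = a := by
    rw [Matrix.mulVec_sub, Matrix.mulVec_neg, e1, e2]; abel
  have key : ∀ y : Fin 6 → ℚ, (qm M ^ 4 - qm M ^ 2 + 1) *ᵥ y = 0 → b ⬝ᵥ (qm CE6 *ᵥ y) = 0 := by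
    intro y hy
    have h4 : a ⬝ᵥ (qm CE6 *ᵥ (qm M *ᵥ (qm M *ᵥ (qm M *ᵥ (qm M *ᵥ y))))) = (-a - b) ⬝ᵥ (qm CE6 *ᵥ y) := by
      conv_lhs => rw [← e3]
      rw [hinv]
      conv_lhs => rw [← e2]
      rw [hinv]
      conv_lhs => rw [← e1]
      rw [hinv]
      conv_lhs => rw [← e3]
      rw [hinv]
    have h5 : a ⬝ᵥ (qm CE6 *ᵥ (qm M *ᵥ (qm M *ᵥ y))) = b ⬝ᵥ (qm CE6 *ᵥ y) := by
      conv_lhs => rw [← e3]
      rw [hinv]
      conv_lhs => rw [← e2]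
      rw [hinv]
    have h6 : qm M *ᵥ (qm M *ᵥ (qm M *ᵥ (qm M *ᵥ y))) - qm M *ᵥ (qm M *ᵥ y) + y = 0 := by
      rw [← hy, Matrix.add_mulVec, Matrix.sub_mulVec, Matrix.one_mulVec]
      simp only [Matrix.mulVec_mulVec]
      congr 2
      · congr 1; noncomm_ring
      · congr 1; noncomm_ring
    have h7 := congrArg (fun z => a ⬝ᵥ (qm CE6 *ᵥ z)) h6
    simp only [Matrix.mulVec_add, Matrix.mulVec_sub, dotProduct_add, dotProduct_sub, Matrix.mulVec_zero, dotProduct_zero,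
      h4, h5, sub_dotProduct, neg_dotProduct] at h7
    linarith
  refine ⟨?_, by rw [← hb]; exact key y hy⟩
  have h8 := key (qm M *ᵥ y) (by
    rw [Matrix.mulVec_mulVec]
    have : (qm M ^ 4 - qm M ^ 2 + 1) * qm M = qm M * (qm M ^ 4 - qm M ^ 2 + 1) := by noncomm_ring
    rw [this, ← Matrix.mulVec_mulVec, hy, Matrix.mulVec_zero])
  rw [← e1, hinv, ha] at h8
  exact h8

/-- no roots in the plane -/
theorem no_root6 (hC : Mᵀ * CE6 * M = CE6) (hcp : M.charpoly = cyclotomic 12 ℤ * cyclotomic 3 ℤ) {v α : Fin 6 → ℤ}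
    (hv : v ≠ 0) (h : (aeval M (cyclotomic 12 ℤ)) *ᵥ v = 0) (hα : α ⬝ᵥ (CE6 *ᵥ α) = 2)
    (h3 : (aeval M (cyclotomic 3 ℤ)) *ᵥ α = 0) : False := by
  have hα0 : α ≠ 0 := by rintro rfl; simp at hα
  have hdec := decomp6 hv hα0 h h3
  rw [aeval12] at h
  rw [cyclotomic_three] at h3
  have h3' : (M ^ 2 + M + 1) *ᵥ α = 0 := by simpa using h3
  clear h3
  have hCH : (M ^ 4 - M ^ 2 + 1) * (M ^ 2 + M + 1) = 0 := by
    have h1 := Matrix.aeval_self_charpoly M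
    rw [hcp, cyc12, cyclotomic_three] at h1
    simpa using h1
  obtain ⟨β, hβ⟩ : ∃ β, β = M *ᵥ α := ⟨_, rfl⟩
  have m1 : M *ᵥ β = -α - β := by
    rw [Matrix.add_mulVec, Matrix.add_mulVec, Matrix.one_mulVec, pow_two, ← Matrix.mulVec_mulVec, ← hβ] at h3'
    linear_combination h3'
  have hinv := dot_inv hC
  have hsym := dot_comm_of_sym CE6_sym
  have hββ : β ⬝ᵥ (CE6 *ᵥ β) = 2 := by rw [hβ, hinv, hα]
  have hαβ : α ⬝ᵥ (CE6 *ᵥ β) = -1 := by
    have h1 := hinv β β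
    rw [m1, hββ, Matrix.mulVec_sub, Matrix.mulVec_neg, sub_dotProduct, neg_dotProduct, dotProduct_sub, dotProduct_sub,
      dotProduct_neg, dotProduct_neg, hα, hββ, hsym β α] at h1
    linarith
  have hβα : β ⬝ᵥ (CE6 *ᵥ α) = -1 := by rw [hsym, hαβ]
  obtain ⟨A, hA⟩ : ∃ A, A = M ^ 4 - M ^ 2 + 1 := ⟨_, rfl⟩
  obtain ⟨Q, hQ⟩ : ∃ Q, Q = -(M * A) := ⟨_, rfl⟩
  obtain ⟨P, hP⟩ : ∃ P : Matrix (Fin 6) (Fin 6) ℤ, P = Matrix.of fun i j =>
    α i * (CE6 *ᵥ (α + α + β)) j + β i * (CE6 *ᵥ (α + β + β)) j := ⟨_, rfl⟩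
  -- the span of `α`, `β`
  have hspan : ∀ C : ℚ[X], ∃ a b : ℚ, (aeval (qm M) C) *ᵥ (qv α) = a • qv α + b • qv β := by
    intro C
    induction C using Polynomial.induction_on' with
    | add p q hp hq =>
      obtain ⟨a, b, e⟩ := hp
      obtain ⟨a', b', e'⟩ := hq
      refine ⟨a + a', b + b', ?_⟩
      rw [map_add, Matrix.add_mulVec, e, e', add_smul, add_smul]; abel
    | monomial n c =>
      have hn : ∀ n : ℕ, ∃ a b : ℚ, (qm M ^ n) *ᵥ (qv α) = a • qv α + b • qv β := by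
        intro n
        induction n with
        | zero => exact ⟨1, 0, by simp⟩
        | succ n ih =>
          obtain ⟨a, b, e⟩ := ih
          refine ⟨-b, a - b, ?_⟩
          have e1 : qm M *ᵥ qv β = - qv α - qv β := by
            rw [qm_mulVec, m1]
            funext i; simp [qv]
          rw [pow_succ', ← Matrix.mulVec_mulVec, e, Matrix.mulVec_add, Matrix.mulVec_smul, Matrix.mulVec_smul, e1,
            qm_mulVec, ← hβ, sub_smul, smul_sub, neg_smul, smul_neg]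
          abel
      obtain ⟨a, b, e⟩ := hn n
      refine ⟨c * a, c * b, ?_⟩
      rw [aeval_monomial, Algebra.algebraMap_eq_smul_one, smul_mul_assoc, one_mul, Matrix.smul_mulVec, e, smul_add,
        smul_smul, smul_smul]
  have hPq : ∀ y : Fin 6 → ℚ, qm P *ᵥ y = ((qv α + qv α + qv β) ⬝ᵥ (qm CE6 *ᵥ y)) • qv α +
      ((qv α + qv β + qv β) ⬝ᵥ (qm CE6 *ᵥ y)) • qv β := by
    intro y
    have e1 : ∀ w : Fin 6 → ℤ, (qv w) ⬝ᵥ (qm CE6 *ᵥ y) = qv (CE6 *ᵥ w) ⬝ᵥ y := by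
      intro w
      rw [Matrix.dotProduct_mulVec, ← qm_mulVec]
      congr 1
      rw [← Matrix.mulVec_transpose, ← qm_transpose, CE6_sym]
    have e2 : qv α + qv α + qv β = qv (α + α + β) := by funext i; simp [qv]
    have e3 : qv α + qv β + qv β = qv (α + β + β) := by funext i; simp [qv]
    rw [e2, e3, e1, e1]
    funext i
    rw [hP]
    simp only [qm, qv, mulVec, dotProduct, Matrix.map_apply, Matrix.of_apply, Pi.add_apply, Pi.smul_apply, smul_eq_mul,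
      eq_intCast, Finset.sum_mul, ← Finset.sum_add_distrib]
    refine Finset.sum_congr rfl fun j _ => ?_
    push_cast
    ring
  -- comparison
  have hPQ : P + P = Q + Q + Q := by
    apply qm_ext
    intro y
    obtain ⟨C, hCy⟩ := hdec y
    obtain ⟨y1, hy1⟩ : ∃ y1, y1 = (aeval (qm M) C) *ᵥ (qv v) := ⟨_, rfl⟩
    obtain ⟨a, b, hab⟩ := hspan C
    have k1 : (qm M ^ 4 - qm M ^ 2 + 1) *ᵥ y1 = 0 := by
      have e1 : (qm M ^ 4 - qm M ^ 2 + 1) = aeval (qm M) (X ^ 4 - X ^ 2 + 1 : ℚ[X]) := by simp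
      have e2 := congrArg qv h
      rw [qv_zero, ← qm_mulVec, qm_add, qm_sub, qm_pow, qm_pow, qm_one, e1] at e2
      rw [hy1, e1, Matrix.mulVec_mulVec, ← map_mul, mul_comm, map_mul, ← Matrix.mulVec_mulVec, e2, Matrix.mulVec_zero]
    obtain ⟨k2, k3⟩ := orth6 hC h3' k1
    rw [← hβ] at k3
    have hPy1 : qm P *ᵥ y1 = 0 := by
      rw [hPq, add_dotProduct, add_dotProduct, add_dotProduct, add_dotProduct, k2, k3]; simp
    have hQy1 : qm Q *ᵥ y1 = 0 := by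
      rw [hQ, qm_neg, qm_mul, Matrix.neg_mulVec, ← Matrix.mulVec_mulVec, hA, qm_add, qm_sub, qm_pow, qm_pow, qm_one, k1,
        Matrix.mulVec_zero, neg_zero]
    have q1 : ∀ x y : Fin 6 → ℤ, (qv x) ⬝ᵥ (qm CE6 *ᵥ (qv y)) = ((x ⬝ᵥ (CE6 *ᵥ y) : ℤ) : ℚ) := by
      intro x y; rw [qm_mulVec, qv_dot]
    have hPα : qm P *ᵥ (qv α) = (3 : ℚ) • qv α := by
      rw [hPq]
      simp only [add_dotProduct, q1, hα, hβα]
      norm_num
    have hPβ : qm P *ᵥ (qv β) = (3 : ℚ) • qv β := by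
      rw [hPq]
      simp only [add_dotProduct, q1, hββ, hαβ]
      norm_num
    have hQα' : Q *ᵥ α = α + α := by
      have e1 : M *ᵥ (-α - β) = α := by rw [Matrix.mulVec_sub, Matrix.mulVec_neg, m1, ← hβ]; abel
      rw [hQ, hA, Matrix.neg_mulVec, ← Matrix.mulVec_mulVec, Matrix.add_mulVec, Matrix.sub_mulVec, Matrix.one_mulVec]
      have e2 : M ^ 2 *ᵥ α = -α - β := by rw [pow_two, ← Matrix.mulVec_mulVec, ← hβ, m1]
      have e3 : M ^ 4 *ᵥ α = β := by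
        rw [show (4 : ℕ) = 2 + 2 by norm_num, pow_add, ← Matrix.mulVec_mulVec, e2, pow_two, ← Matrix.mulVec_mulVec, e1, ← hβ]
      rw [e2, e3]
      have e4 : β - (-α - β) + α = (α + α) + (β + β) := by abel
      rw [e4, Matrix.mulVec_add, Matrix.mulVec_add, Matrix.mulVec_add, ← hβ, m1]
      abel
    have hQM : Q * M = M * Q := by rw [hQ, hA]; noncomm_ring
    have hQβ' : Q *ᵥ β = β + β := by
      rw [hβ, Matrix.mulVec_mulVec, hQM, ← Matrix.mulVec_mulVec, hQα', Matrix.mulVec_add]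
    have hQα : qm Q *ᵥ (qv α) = (2 : ℚ) • qv α := by
      rw [qm_mulVec, hQα']
      funext i; simp [qv]; ring
    have hQβ : qm Q *ᵥ (qv β) = (2 : ℚ) • qv β := by
      rw [qm_mulVec, hQβ']
      funext i; simp [qv]; ring
    rw [hCy, ← hy1, hab, qm_add, qm_add, qm_add]
    simp only [Matrix.add_mulVec, Matrix.mulVec_add, Matrix.mulVec_smul, hPy1, hQy1, hPα, hPβ, hQα, hQβ, zero_add]
    module
  -- the projection
  obtain ⟨π, hπ⟩ : ∃ π, π = P - Q := ⟨_, rfl⟩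
  have hπQ : π + π = Q := by
    rw [hπ]
    have : P - Q + (P - Q) = (P + P) - (Q + Q) := by abel
    rw [this, hPQ]; abel
  have hπP : π + π + π = P := by
    rw [hπQ, hπ]; abel
  have hQQ : Q * Q = Q + Q := by
    have h1 : Q * Q - (Q + Q) = M * ((M ^ 4 - M ^ 2 + 1) * (M ^ 2 + M + 1)) * (M ^ 3 - M ^ 2 - M + 2) := by
      rw [hQ, hA]; noncomm_ring
    rw [hCH, mul_zero, zero_mul, sub_eq_zero] at h1
    exact h1
  have hππ : π * π = π := by
    have h1 : (4 : ℤ) • (π * π) = (4 : ℤ) • π := by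
      have e1 : (4 : ℤ) • (π * π) = (π + π) * (π + π) := by noncomm_ring
      rw [e1, hπQ, hQQ, ← hπQ]; abel
    ext i j
    have h2 := congrFun (congrFun h1 i) j
    rw [Matrix.smul_apply, Matrix.smul_apply, smul_eq_mul, smul_eq_mul] at h2
    linarith
  have hPs : Pᵀ * CE6 = CE6 * P := by
    have hCs : ∀ i j : Fin 6, CE6 i j = CE6 j i := fun i j => congrFun (congrFun CE6_sym j) i
    ext i j
    have e1 : (Pᵀ * CE6) i j = (CE6 *ᵥ (α + α + β)) i * (CE6 *ᵥ α) j + (CE6 *ᵥ (α + β + β)) i * (CE6 *ᵥ β) j := by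
      rw [Matrix.mul_apply]
      simp only [Matrix.transpose_apply, hP, Matrix.of_apply]
      rw [show (CE6 *ᵥ α) j = ∑ k, CE6 j k * α k from rfl, show (CE6 *ᵥ β) j = ∑ k, CE6 j k * β k from rfl,
        Finset.mul_sum, Finset.mul_sum, ← Finset.sum_add_distrib]
      refine Finset.sum_congr rfl fun k _ => ?_
      rw [hCs k j]; ring
    have e2 : (CE6 * P) i j = (CE6 *ᵥ α) i * (CE6 *ᵥ (α + α + β)) j + (CE6 *ᵥ β) i * (CE6 *ᵥ (α + β + β)) j := by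
      rw [Matrix.mul_apply]
      simp only [hP, Matrix.of_apply]
      rw [show (CE6 *ᵥ α) i = ∑ k, CE6 i k * α k from rfl, show (CE6 *ᵥ β) i = ∑ k, CE6 i k * β k from rfl,
        Finset.sum_mul, Finset.sum_mul, ← Finset.sum_add_distrib]
      refine Finset.sum_congr rfl fun k _ => ?_
      ring
    rw [e1, e2]
    simp only [Matrix.mulVec_add, Pi.add_apply]
    ring
  have hπs : πᵀ * CE6 = CE6 * π := by
    have h1 : (3 : ℤ) • (πᵀ * CE6) = (3 : ℤ) • (CE6 * π) := by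
      have e1 : (3 : ℤ) • (πᵀ * CE6) = (π + π + π)ᵀ * CE6 := by
        rw [Matrix.transpose_add, Matrix.transpose_add]; noncomm_ring
      have e2 : (3 : ℤ) • (CE6 * π) = CE6 * (π + π + π) := by noncomm_ring
      rw [e1, e2, hπP, hPs]
    ext i j
    have h2 := congrFun (congrFun h1 i) j
    rw [Matrix.smul_apply, Matrix.smul_apply, smul_eq_mul, smul_eq_mul] at h2
    linarith
  rcases ind6 hππ hπs with h0 | h0
  · -- `π = 0`
    have hP0 : P = 0 := by rw [← hπP, h0]; simp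
    have e1 := hPq (qv α)
    have q1 : ∀ x y : Fin 6 → ℤ, (qv x) ⬝ᵥ (qm CE6 *ᵥ (qv y)) = ((x ⬝ᵥ (CE6 *ᵥ y) : ℤ) : ℚ) := by
      intro x y; rw [qm_mulVec, qv_dot]
    rw [hP0, qm_zero, Matrix.zero_mulVec] at e1
    simp only [add_dotProduct, q1, hα, hβα] at e1
    norm_num at e1
    exact hα0 (qv_inj (by rw [qv_zero]; exact (smul_eq_zero.1 e1.symm).resolve_left (by norm_num)))
  · have hQ2 : Q = 1 + 1 := by rw [← hπQ, h0]
    have e1 : Q *ᵥ v = 0 := by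
      rw [hQ, Matrix.neg_mulVec, ← Matrix.mulVec_mulVec, hA, h, Matrix.mulVec_zero, neg_zero]
    rw [hQ2, Matrix.add_mulVec, Matrix.one_mulVec] at e1
    apply hv
    funext i
    have := congrFun e1 i
    rw [Pi.add_apply, Pi.zero_apply] at this
    rw [Pi.zero_apply]
    omega

end

end Cfsg.Agent.ChevF
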