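import Cfsg.Agent.ChevF.TorMain
import Cfsg.Agent.ChevGrp.Types
import Cfsg.Agent.S1059
import Cfsg.Agent.S1062
import Cfsg.Agent.S1065

set_option autoImplicit false
set_option maxRecDepth 100000

/-!
Self-centralizing cyclic tori, arithmetic (helper19).
-/

namespace Cfsg.Agent.ChevF

open Cfsg.Lie Cfsg.Agent.Chev Cfsg.Agent.ChevGrp Cfsg.Agent.ChevWeyl Matrix Polynomial

lemma card_W_G2 (E : DData chevG2) : Nat.card E.rp.wsys.W = 12 := by
  have h := RootPerm.card_WJ (D := E.rp) Finset.univ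
  rw [RootPerm.WJ_univ] at h
  exact h.trans (cardG2_aux E.rp (cartan_G2 E))

lemma card_W_B2 (E : DData chevB2) : Nat.card E.rp.wsys.W = 8 := by
  have h := RootPerm.card_WJ (D := E.rp) Finset.univ
  rw [RootPerm.WJ_univ] at h
  exact h.trans (cardB2_aux E.rp (cartan_B2 E))

lemma card_W_D4 (E : DData chevD4) : Nat.card E.rp.wsys.W = 192 := by
  have h := RootPerm.card_WJ (D := E.rp) Finset.univ
  rw [RootPerm.WJ_univ] at h
  exact h.trans (cardD4_aux E.rp (cartan_D4 E))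

lemma card_W_F4 (E : DData chevF4) : Nat.card E.rp.wsys.W = 1152 := by
  have h := RootPerm.card_WJ (D := E.rp) Finset.univ
  rw [RootPerm.WJ_univ] at h
  exact h.trans (cardF4_aux E.rp (cartan_F4 E))

lemma card_W_E6 (E : DData chevE6) : Nat.card E.rp.wsys.W = 51840 := by
  have h := RootPerm.card_WJ (D := E.rp) Finset.univ
  rw [RootPerm.WJ_univ] at h
  exact h.trans (cardE6_aux E.rp (cartan_E6 E))

lemma card_W_E7 (E : DData chevE7) : Nat.card E.rp.wsys.W = 2903040 := by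
  have h := RootPerm.card_WJ (D := E.rp) Finset.univ
  rw [RootPerm.WJ_univ] at h
  exact h.trans (cardE7_aux E.rp (cartan_E7 E))

lemma card_W_E8 (E : DData chevE8) : Nat.card E.rp.wsys.W = 696729600 := by
  have h := RootPerm.card_WJ (D := E.rp) Finset.univ
  rw [RootPerm.WJ_univ] at h
  exact h.trans (cardE8_aux E.rp (cartan_E8 E))

variable {D : ChevalleyDatum}

/-- the extension field with its Frobenius map -/
theorem exists_ext {F : Type*} [Field F] [Fintype F] {q N : ℕ} (hq : Fintype.card F = q) (hN : 0 < N) :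
    ∃ (K : Type) (_ : Field K) (_ : Fintype K) (ι : F →+* K) (σ : K →+* K), Fintype.card K = q ^ N ∧
      (∀ t, σ t = t ^ q) ∧ (∀ t, σ (ι t) = ι t) ∧ (∀ t, σ t = t → ∃ t₀, ι t₀ = t) := by
  classical
  obtain ⟨p, hp⟩ := CharP.exists F
  have := hp
  have : Fact p.Prime := ⟨CharP.char_is_prime F p⟩
  have : NeZero N := ⟨hN.ne'⟩
  let K := FiniteField.Extension F p N
  haveI : Fintype K := Fintype.ofFinite K
  refine ⟨K, inferInstance, inferInstance, algebraMap F K, ((FiniteField.Extension.frob F p N : K →ₐ[F] K) : K →+* K), ?_, ?_, ?_, ?_⟩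
  · rw [← Nat.card_eq_fintype_card, FiniteField.natCard_extension, Nat.card_eq_fintype_card, hq]
  · intro t
    have h := FiniteField.Extension.frob_apply F p N (x := t)
    rw [Nat.card_eq_fintype_card, hq] at h
    exact h
  · intro t
    exact (FiniteField.Extension.frob F p N).commutes t
  · intro t ht
    have h1 : t ∈ Set.range (algebraMap F K) := by
      rw [IsGalois.mem_range_algebraMap_iff_fixed]
      intro g
      obtain ⟨i, -, rfl⟩ := FiniteField.Extension.exists_frob_pow_eq F p N g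
      have ht' : (FiniteField.Extension.frob F p N) t = t := ht
      clear ht
      induction i with
      | zero => simp
      | succ i ih => rw [pow_succ, AlgEquiv.mul_apply, ht', ih]
    exact h1

lemma orderOf_of_cyclotomic {q r d : ℕ} [Fact r.Prime] (h : (r : ℤ) ∣ (cyclotomic d ℤ).eval (q : ℤ)) (hd : ¬ r ∣ d) :
    orderOf (q : ZMod r) = d := by
  have : NeZero (d : ZMod r) := ⟨fun h => hd ((ZMod.natCast_eq_zero_iff d r).1 h)⟩
  have h1 : IsPrimitiveRoot (q : ZMod r) d := by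
    rw [← isRoot_cyclotomic_iff, IsRoot.def, ← map_cyclotomic d (Int.castRingHom (ZMod r))]
    have h2 : ((q : ℤ) : ZMod r) = (q : ZMod r) := by push_cast; rfl
    have h3 := Polynomial.eval_intCast_map (Int.castRingHom (ZMod r)) (cyclotomic d ℤ) (q : ℤ)
    rw [h2] at h3
    rw [h3, eq_intCast]
    exact (ZMod.intCast_zmod_eq_zero_iff_dvd _ _).2 h
  exact h1.eq_orderOf.symm

lemma dvd_pow_sub_one {q d : ℕ} (hq : 0 < q) (hd : 0 < d) : (cyclotomic d ℤ).eval (q : ℤ) ∣ ((q ^ d - 1 : ℕ) : ℤ) := by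
  have h1 : cyclotomic d ℤ ∣ X ^ d - 1 := cyclotomic.dvd_X_pow_sub_one d ℤ
  have h2 := Polynomial.eval_dvd (x := (q : ℤ)) h1
  rw [Nat.cast_sub (Nat.one_le_pow _ _ hq)]
  simpa using h2

/-- existence of self-centralizing cyclic tori -/
theorem exists_torus (E : DData D) {F : Type*} [Field F] [Fintype F] (hD : D ∈ data) {q d r : ℕ} [hr : Fact r.Prime]
    (hq : Fintype.card F = q) (hrd : ¬ r ∣ d) (hrq : (r : ℤ) ∣ (cyclotomic d ℤ).eval (q : ℤ))
    (hdeg : d.totient = D.rank) (hd0 : 0 < d)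
    (hW : ¬ r ∣ Nat.card E.rp.wsys.W) (hG : q ^ d - 1 ∣ Nat.card (D.group F))
    (hcF : Nat.card (D.diagonalSubgroup F) = (Fintype.card F - 1) ^ D.rank)
    (hcT : ∀ (L : Type) [Field L] [Fintype L], Nat.card (D.diagonalSubgroup L) = (Fintype.card L - 1) ^ D.rank)
    (hcyc : ∀ ℓ : ℕ, ℓ.Prime → ℓ ∣ d → ¬ ℓ ^ 2 ∣ ((cyclotomic d ℤ).eval (q : ℤ)).natAbs) :
    ∃ T : Subgroup ↥(D.group F), IsCyclic ↥T ∧ Nat.card ↥T = ((cyclotomic d ℤ).eval (q : ℤ)).natAbs ∧
      Subgroup.centralizer (T : Set ↥(D.group F)) = T := by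
  have hq0 : 0 < q := by rw [← hq]; exact Fintype.card_pos
  have hW0 : 0 < Nat.card E.rp.wsys.W := Nat.card_pos
  obtain ⟨K, i1, i2, ι, σ, h1, h2, h3, h4⟩ := exists_ext hq (Nat.mul_pos hW0 hd0)
  have hrG : r ∣ Nat.card (D.group F) := by
    refine dvd_trans ?_ hG
    exact_mod_cast hrq.trans (dvd_pow_sub_one hq0 hd0)
  exact torus_main E hD ι σ hq0 h2 h3 h4 h1 (Dvd.intro _ rfl) (Nat.mul_pos hW0 hd0) (orderOf_of_cyclotomic hrq hrd)
    (Dvd.intro_left _ rfl) hdeg hd0 hW hrG (torHom_mem hD hcF) (torHom_mem hD (hcT K)) hcyc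

lemma cyc8_eval (q : ℤ) : (cyclotomic 8 ℤ).eval q = q ^ 4 + 1 := by
  have h := Polynomial.cyclotomic_prime_pow_eq_geom_sum (R := ℤ) Nat.prime_two (n := 2)
  norm_num at h
  rw [h]
  simp [Finset.sum_range_succ]

lemma cyc30_eval (q : ℤ) : (cyclotomic 30 ℤ).eval q = q ^ 8 + q ^ 7 - q ^ 5 - q ^ 4 - q ^ 3 + q + 1 := by
  have h := Polynomial.cyclotomic_expand_eq_cyclotomic_mul (p := 5) (n := 6) (by norm_num) (by norm_num) ℤ
  have h1 := congrArg (fun p => Polynomial.eval q p) h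
  simp only [expand_eval, eval_mul, cyclotomic_six] at h1
  norm_num at h1
  have h2 : q ^ 2 - q + 1 ≠ 0 := by nlinarith [sq_nonneg (2 * q - 1)]
  apply mul_right_cancel₀ h2
  rw [← h1]; ring

lemma cyc3_eval (q : ℤ) : (cyclotomic 3 ℤ).eval q = q ^ 2 + q + 1 := by
  rw [cyclotomic_three]; simp

/-- a prime divisor which is larger than `d` -/
lemma lt_of_orderOf {q r d : ℕ} [hr : Fact r.Prime] (h : (r : ℤ) ∣ (cyclotomic d ℤ).eval (q : ℤ)) (hd : ¬ r ∣ d)
    (hd0 : 0 < d) : d < r := by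
  have h1 := orderOf_of_cyclotomic h hd
  have h2 : (q : ZMod r) ≠ 0 := by
    intro h0
    rw [h0, orderOf_eq_zero_iff'.2 (fun n hn => by rw [zero_pow hn.ne']; exact zero_ne_one)] at h1
    omega
  have h3 : (q : ZMod r) ^ (r - 1) = 1 := ZMod.pow_card_sub_one_eq_one h2
  have h4 := orderOf_dvd_of_pow_eq_one h3
  rw [h1] at h4
  have h5 := Nat.le_of_dvd (Nat.sub_pos_of_lt hr.out.one_lt) h4
  have := hr.out.one_lt
  omega

/-- existence of a prime divisor of `n` not dividing `d` -/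
lemma exists_prime_not_dvd {n d : ℕ} (hn : n ≠ 0) (hd : d ≠ 0) (hsq : ∀ ℓ : ℕ, ℓ.Prime → ℓ ∣ d → ¬ ℓ ^ 2 ∣ n) (hnd : ¬ n ∣ d) :
    ∃ r : ℕ, r.Prime ∧ r ∣ n ∧ ¬ r ∣ d := by
  by_contra hcon
  push Not at hcon
  apply hnd
  rw [← Nat.factorization_le_iff_dvd hn hd]
  intro ℓ
  by_cases hℓ : ℓ.Prime
  · by_cases hℓn : ℓ ∣ n
    · have h1 := hcon ℓ hℓ hℓn
      have h2 : n.factorization ℓ < 2 := by
        by_contra h3
        exact hsq ℓ hℓ h1 ((hℓ.pow_dvd_iff_le_factorization hn).2 (not_lt.1 h3))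
      have h3 : 1 ≤ d.factorization ℓ := by
        rw [← hℓ.pow_dvd_iff_le_factorization hd, pow_one]; exact h1
      omega
    · rw [Nat.factorization_eq_zero_of_not_dvd hℓn]; exact Nat.zero_le _
  · rw [Nat.factorization_eq_zero_of_not_prime _ hℓ]; exact Nat.zero_le _

/-- two elements of a finite field -/
lemma two_le_card (F : Type*) [Field F] [Fintype F] : 2 ≤ Fintype.card F := Fintype.one_lt_card

theorem torus_G2 {F : Type*} [Field F] [Fintype F] (q : ℕ) (hF : Fintype.card F = q) :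
    ∃ H : Subgroup ↥(chevG2.group F), IsCyclic ↥H ∧ Nat.card ↥H = q ^ 2 + q + 1 ∧
      Subgroup.centralizer (H : Set ↥(chevG2.group F)) = H := by
  have hD : chevG2 ∈ data := by simp [data]
  obtain ⟨E⟩ := DData.nonempty_of_mem (D := chevG2) hD
  have hq2 : 2 ≤ q := by rw [← hF]; exact two_le_card F
  have hval : ((cyclotomic 3 ℤ).eval (q : ℤ)).natAbs = q ^ 2 + q + 1 := by
    rw [cyc3_eval]
    have : ((q : ℤ) ^ 2 + q + 1) = ((q ^ 2 + q + 1 : ℕ) : ℤ) := by push_cast; ring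
    rw [this, Int.natAbs_natCast]
  have hcyc : ∀ ℓ : ℕ, ℓ.Prime → ℓ ∣ 3 → ¬ ℓ ^ 2 ∣ q ^ 2 + q + 1 := by
    intro ℓ hℓ h3 h9
    have : ℓ = 3 := (Nat.prime_dvd_prime_iff_eq hℓ Nat.prime_three).1 h3
    subst this
    have h1 : ((q ^ 2 + q + 1 : ℕ) : ZMod 9) = 0 := (ZMod.natCast_eq_zero_iff _ _).2 h9
    push_cast at h1
    generalize (q : ZMod 9) = x at h1
    revert x; decide
  obtain ⟨r, hr, hrn, hrd⟩ := exists_prime_not_dvd (n := q ^ 2 + q + 1) (d := 3) (by positivity) (by norm_num) hcyc (by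
    intro hd
    have := Nat.le_of_dvd (by norm_num) hd
    nlinarith)
  haveI : Fact r.Prime := ⟨hr⟩
  have hrq : (r : ℤ) ∣ (cyclotomic 3 ℤ).eval (q : ℤ) := by
    rw [← Int.dvd_natAbs, hval]; exact_mod_cast hrn
  have hr3 := lt_of_orderOf hrq hrd (by norm_num)
  have h := exists_torus E (F := F) hD hF hrd hrq (by decide) (by norm_num) (by
      rw [card_W_G2]
      intro hd
      have h1 : r ∣ 2 ^ 2 * 3 := by simpa using hd
      rcases (Nat.Prime.dvd_mul hr).1 h1 with h2 | h2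
      · have := Nat.le_of_dvd (by norm_num) (hr.dvd_of_dvd_pow h2); omega
      · exact hrd h2) (by
      rw [Cfsg.Agent.S1059.result hF]
      have h1 : q ^ 3 - 1 ∣ q ^ 6 - 1 := by
        have := Nat.sub_dvd_pow_sub_pow (q ^ 3) 1 2
        rwa [one_pow, ← pow_mul] at this
      exact h1.trans (Dvd.intro_left _ rfl)) (by
      have := Cfsg.Agent.ChevU.card_diag (F := F) rfl (chevG2, 1) (by simp)
      rw [one_mul] at this; exact this) (by
      intro L _ _
      have := Cfsg.Agent.ChevU.card_diag (F := L) rfl (chevG2, 1) (by simp)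
      rw [one_mul] at this; exact this) (by rw [hval]; exact hcyc)
  rw [hval] at h
  exact h

theorem torus_F4 {F : Type*} [Field F] [Fintype F] (q : ℕ) (hF : Fintype.card F = q) :
    ∃ H : Subgroup ↥(chevF4.group F), IsCyclic ↥H ∧ Nat.card ↥H = q ^ 4 + 1 ∧
      Subgroup.centralizer (H : Set ↥(chevF4.group F)) = H := by
  have hD : chevF4 ∈ data := by simp [data]
  obtain ⟨E⟩ := DData.nonempty_of_mem (D := chevF4) hD
  have hq2 : 2 ≤ q := by rw [← hF]; exact two_le_card F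
  have hval : ((cyclotomic 8 ℤ).eval (q : ℤ)).natAbs = q ^ 4 + 1 := by
    rw [cyc8_eval]
    have : ((q : ℤ) ^ 4 + 1) = ((q ^ 4 + 1 : ℕ) : ℤ) := by push_cast; ring
    rw [this, Int.natAbs_natCast]
  have hcyc : ∀ ℓ : ℕ, ℓ.Prime → ℓ ∣ 8 → ¬ ℓ ^ 2 ∣ q ^ 4 + 1 := by
    intro ℓ hℓ h3 h9
    have : ℓ = 2 := by
      have h1 : ℓ ∣ 2 ^ 3 := h3
      exact (Nat.prime_dvd_prime_iff_eq hℓ Nat.prime_two).1 (hℓ.dvd_of_dvd_pow h1)
    subst this
    have h1 : ((q ^ 4 + 1 : ℕ) : ZMod 4) = 0 := (ZMod.natCast_eq_zero_iff _ _).2 h9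
    push_cast at h1
    generalize (q : ZMod 4) = x at h1
    revert x; decide
  obtain ⟨r, hr, hrn, hrd⟩ := exists_prime_not_dvd (n := q ^ 4 + 1) (d := 8) (by positivity) (by norm_num) hcyc (by
    intro hd
    have := Nat.le_of_dvd (by norm_num) hd
    have h2 : 2 ^ 4 ≤ q ^ 4 := Nat.pow_le_pow_left hq2 4
    omega)
  haveI : Fact r.Prime := ⟨hr⟩
  have hrq : (r : ℤ) ∣ (cyclotomic 8 ℤ).eval (q : ℤ) := by
    rw [← Int.dvd_natAbs, hval]; exact_mod_cast hrn
  have hr3 := lt_of_orderOf hrq hrd (by norm_num)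
  have h := exists_torus E (F := F) hD hF hrd hrq (by decide) (by norm_num) (by
      rw [card_W_F4]
      intro hd
      have h1 : r ∣ 2 ^ 7 * 3 ^ 2 := by simpa using hd
      rcases (Nat.Prime.dvd_mul hr).1 h1 with h2 | h2
      · have := Nat.le_of_dvd (by norm_num) (hr.dvd_of_dvd_pow h2); omega
      · have := Nat.le_of_dvd (by norm_num) (hr.dvd_of_dvd_pow h2); omega) (by
      rw [Cfsg.Agent.S1062.result hF]
      exact (Dvd.intro_left _ rfl : q ^ 8 - 1 ∣ q ^ 24 * (q ^ 2 - 1) * (q ^ 6 - 1) * (q ^ 8 - 1)).mul_right _) (by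
      have := Cfsg.Agent.ChevU.card_diag (F := F) rfl (chevF4, 1) (by simp)
      rw [one_mul] at this; exact this) (by
      intro L _ _
      have := Cfsg.Agent.ChevU.card_diag (F := L) rfl (chevF4, 1) (by simp)
      rw [one_mul] at this; exact this) (by rw [hval]; exact hcyc)
  rw [hval] at h
  exact h

theorem torus_E8 {F : Type*} [Field F] [Fintype F] (q : ℕ) (hF : Fintype.card F = q) :
    ∃ H : Subgroup ↥(chevE8.group F), IsCyclic ↥H ∧ Nat.card ↥H = q ^ 8 + q ^ 7 - q ^ 5 - q ^ 4 - q ^ 3 + q + 1 ∧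
      Subgroup.centralizer (H : Set ↥(chevE8.group F)) = H := by
  have hD : chevE8 ∈ data := by simp [data]
  obtain ⟨E⟩ := DData.nonempty_of_mem (D := chevE8) hD
  have hq2 : 2 ≤ q := by rw [← hF]; exact two_le_card F
  have h8 : q ^ 5 + q ^ 4 + q ^ 3 ≤ q ^ 8 := by
    have h1 : q ^ 8 = q ^ 3 * q ^ 5 := by ring
    have h2 : q ^ 5 = q ^ 2 * q ^ 3 := by ring
    have h3 : q ^ 4 = q * q ^ 3 := by ring
    have h4 : 2 ^ 5 ≤ q ^ 5 := Nat.pow_le_pow_left hq2 5
    have h5 : 0 < q ^ 3 := by positivity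
    rw [h1]
    have h6 : q ^ 2 + q + 1 ≤ q ^ 5 := by
      have : q ^ 5 = q ^ 3 * q ^ 2 := by ring
      have h7 : 2 ^ 3 ≤ q ^ 3 := Nat.pow_le_pow_left hq2 3
      nlinarith
    calc q ^ 5 + q ^ 4 + q ^ 3 = q ^ 3 * (q ^ 2 + q + 1) := by ring
      _ ≤ q ^ 3 * q ^ 5 := Nat.mul_le_mul_left _ h6
  have hcast : ((q ^ 8 + q ^ 7 - q ^ 5 - q ^ 4 - q ^ 3 + q + 1 : ℕ) : ℤ) =
      (q : ℤ) ^ 8 + (q : ℤ) ^ 7 - (q : ℤ) ^ 5 - (q : ℤ) ^ 4 - (q : ℤ) ^ 3 + q + 1 := by
    rw [Nat.cast_add, Nat.cast_add, Nat.cast_sub (by omega), Nat.cast_sub (by omega), Nat.cast_sub (by omega)]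
    push_cast; ring
  have hval : ((cyclotomic 30 ℤ).eval (q : ℤ)).natAbs = q ^ 8 + q ^ 7 - q ^ 5 - q ^ 4 - q ^ 3 + q + 1 := by
    rw [cyc30_eval, ← hcast, Int.natAbs_natCast]
  have hnot : ∀ ℓ : ℕ, ℓ.Prime → ℓ ∣ 30 → ¬ ℓ ∣ q ^ 8 + q ^ 7 - q ^ 5 - q ^ 4 - q ^ 3 + q + 1 := by
    intro ℓ hℓ h3 h9
    have h1 : ℓ ∣ 2 * (3 * 5) := by simpa using h3
    have h2 : ℓ = 2 ∨ ℓ = 3 ∨ ℓ = 5 := by
      rcases (Nat.Prime.dvd_mul hℓ).1 h1 with h2 | h2
      · left; exact (Nat.prime_dvd_prime_iff_eq hℓ Nat.prime_two).1 h2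
      · rcases (Nat.Prime.dvd_mul hℓ).1 h2 with h2 | h2
        · right; left; exact (Nat.prime_dvd_prime_iff_eq hℓ Nat.prime_three).1 h2
        · right; right; exact (Nat.prime_dvd_prime_iff_eq hℓ Nat.prime_five).1 h2
    have h4 : (((q ^ 8 + q ^ 7 - q ^ 5 - q ^ 4 - q ^ 3 + q + 1 : ℕ) : ℤ) : ZMod ℓ) = 0 := by
      rw [Int.cast_natCast]; exact (ZMod.natCast_eq_zero_iff _ _).2 h9
    rw [hcast] at h4
    push_cast at h4
    rcases h2 with rfl | rfl | rfl
    · generalize (q : ZMod 2) = x at h4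
      revert x; decide
    · generalize (q : ZMod 3) = x at h4
      revert x; decide
    · generalize (q : ZMod 5) = x at h4
      revert x; decide
  have hcyc : ∀ ℓ : ℕ, ℓ.Prime → ℓ ∣ 30 → ¬ ℓ ^ 2 ∣ q ^ 8 + q ^ 7 - q ^ 5 - q ^ 4 - q ^ 3 + q + 1 := fun ℓ hℓ h3 h9 =>
    hnot ℓ hℓ h3 ((dvd_pow_self ℓ (by norm_num)).trans h9)
  obtain ⟨r, hr, hrn, hrd⟩ := exists_prime_not_dvd (n := q ^ 8 + q ^ 7 - q ^ 5 - q ^ 4 - q ^ 3 + q + 1) (d := 30)
    (by omega) (by norm_num) hcyc (by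
    intro hd
    have := Nat.le_of_dvd (by norm_num) hd
    have h2 : 2 ^ 7 ≤ q ^ 7 := Nat.pow_le_pow_left hq2 7
    omega)
  haveI : Fact r.Prime := ⟨hr⟩
  have hrq : (r : ℤ) ∣ (cyclotomic 30 ℤ).eval (q : ℤ) := by
    rw [← Int.dvd_natAbs, hval]; exact_mod_cast hrn
  have hr3 := lt_of_orderOf hrq hrd (by norm_num)
  have h := exists_torus E (F := F) hD hF hrd hrq (by decide) (by norm_num) (by
      rw [card_W_E8]
      intro hd
      have h1 : r ∣ (2 ^ 14 * 3 ^ 5) * (5 ^ 2 * 7) := by simpa using hd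
      rcases (Nat.Prime.dvd_mul hr).1 h1 with h2 | h2
      · rcases (Nat.Prime.dvd_mul hr).1 h2 with h2 | h2
        · have := Nat.le_of_dvd (by norm_num) (hr.dvd_of_dvd_pow h2); omega
        · have := Nat.le_of_dvd (by norm_num) (hr.dvd_of_dvd_pow h2); omega
      · rcases (Nat.Prime.dvd_mul hr).1 h2 with h2 | h2
        · have := Nat.le_of_dvd (by norm_num) (hr.dvd_of_dvd_pow h2); omega
        · have := Nat.le_of_dvd (by norm_num) h2; omega) (by
      rw [Cfsg.Agent.S1065.result hF]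
      exact Dvd.intro_left _ rfl) (by
      have := Cfsg.Agent.ChevU.card_diag (F := F) rfl (chevE8, 1) (by simp)
      rw [one_mul] at this; exact this) (by
      intro L _ _
      have := Cfsg.Agent.ChevU.card_diag (F := L) rfl (chevE8, 1) (by simp)
      rw [one_mul] at this; exact this) (by rw [hval]; exact hcyc)
  rw [hval] at h
  exact h

end Cfsg.Agent.ChevF
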