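import Cfsg.Agent.ChevF.E6W
import Cfsg.Agent.ChevF.TorRows
import Cfsg.Agent.S1063
import Cfsg.Agent.Mult.E

set_option autoImplicit false

/-!
The self-centralizing torus of type E6 (helper19).
-/

namespace Cfsg.Agent.ChevF

open Cfsg.Lie Cfsg.Agent.Chev Cfsg.Agent.ChevGrp Cfsg.Agent.Steinb Matrix Polynomial

lemma cyc12_eval (q : ℤ) : (cyclotomic 12 ℤ).eval q = q ^ 4 - q ^ 2 + 1 := by
  rw [cyc12]; simp

lemma one_le_q42 {q : ℕ} : q ^ 2 ≤ q ^ 4 := by
  rcases Nat.eq_zero_or_pos q with h | h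
  · subst h; norm_num
  · exact Nat.pow_le_pow_right h (by norm_num)

lemma cyc12_nat (q : ℕ) : ((cyclotomic 12 ℤ).eval (q : ℤ)).natAbs = q ^ 4 - q ^ 2 + 1 := by
  rw [cyc12_eval]
  have : ((q : ℤ) ^ 4 - q ^ 2 + 1) = ((q ^ 4 - q ^ 2 + 1 : ℕ) : ℤ) := by
    rw [Nat.cast_add, Nat.cast_sub one_le_q42]; push_cast; ring
  rw [this, Int.natAbs_natCast]

lemma cast12 {q : ℕ} (ℓ : ℕ) : ((q ^ 4 - q ^ 2 + 1 : ℕ) : ZMod ℓ) = (q : ZMod ℓ) ^ 4 - (q : ZMod ℓ) ^ 2 + 1 := by
  rw [Nat.cast_add, Nat.cast_sub one_le_q42]; push_cast; ring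

lemma not2_12 (q : ℕ) : ¬ 2 ∣ q ^ 4 - q ^ 2 + 1 := by
  intro h
  have h1 := (ZMod.natCast_eq_zero_iff (q ^ 4 - q ^ 2 + 1) 2).2 h
  rw [cast12] at h1
  generalize (q : ZMod 2) = x at h1
  revert x; decide

lemma not3_12 (q : ℕ) : ¬ 3 ∣ q ^ 4 - q ^ 2 + 1 := by
  intro h
  have h1 := (ZMod.natCast_eq_zero_iff (q ^ 4 - q ^ 2 + 1) 3).2 h
  rw [cast12] at h1
  generalize (q : ZMod 3) = x at h1
  revert x; decide

lemma prime_dvd_12 {ℓ : ℕ} (hℓ : ℓ.Prime) (h : ℓ ∣ 12) : ℓ = 2 ∨ ℓ = 3 := by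
  have h1 : ℓ ∣ 2 ^ 2 * 3 := h
  rcases (Nat.Prime.dvd_mul hℓ).1 h1 with h2 | h2
  · left; exact (Nat.prime_dvd_prime_iff_eq hℓ Nat.prime_two).1 (hℓ.dvd_of_dvd_pow h2)
  · right; exact (Nat.prime_dvd_prime_iff_eq hℓ Nat.prime_three).1 h2

/-- a prime divisor of `q⁴ - q² + 1` -/
lemma exists_r12 {q : ℕ} (hq : 2 ≤ q) : ∃ r : ℕ, r.Prime ∧ r ∣ q ^ 4 - q ^ 2 + 1 ∧ ¬ r ∣ 12 := by
  apply exists_prime_not_dvd (by omega) (by norm_num)
  · intro ℓ hℓ h12 h2
    rcases prime_dvd_12 hℓ h12 with rfl | rfl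
    · exact not2_12 q ((dvd_pow_self 2 (by norm_num)).trans h2)
    · exact not3_12 q ((dvd_pow_self 3 (by norm_num)).trans h2)
  · intro h
    have h1 := Nat.le_of_dvd (by norm_num) h
    have h2 : q ^ 4 = q ^ 2 * q ^ 2 := by ring
    have h3 : 4 ≤ q ^ 2 := by nlinarith
    have h4 : q ^ 2 * 4 ≤ q ^ 2 * q ^ 2 := Nat.mul_le_mul_left _ h3
    omega

lemma cyc3_nat (q : ℕ) : ((cyclotomic 3 ℤ).eval (q : ℤ)).natAbs = q ^ 2 + q + 1 := by
  rw [cyc3_eval]
  have : ((q : ℤ) ^ 2 + q + 1) = ((q ^ 2 + q + 1 : ℕ) : ℤ) := by push_cast; ring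
  rw [this, Int.natAbs_natCast]

lemma not2_3 (q : ℕ) : ¬ 2 ∣ q ^ 2 + q + 1 := by
  intro h2
  have h3 : ((q ^ 2 + q + 1 : ℕ) : ZMod 2) = 0 := (ZMod.natCast_eq_zero_iff _ _).2 h2
  push_cast at h3
  generalize (q : ZMod 2) = x at h3
  revert x; decide

lemma not9_3 (q : ℕ) : ¬ 3 ^ 2 ∣ q ^ 2 + q + 1 := by
  intro h2
  have h3 : ((q ^ 2 + q + 1 : ℕ) : ZMod 9) = 0 := (ZMod.natCast_eq_zero_iff _ _).2 h2
  push_cast at h3
  generalize (q : ZMod 9) = x at h3
  revert x; decide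

/-- a prime divisor of `q² + q + 1` -/
lemma exists_r3 {q : ℕ} (hq : 2 ≤ q) : ∃ r' : ℕ, r'.Prime ∧ r' ∣ q ^ 2 + q + 1 ∧ ¬ r' ∣ 3 := by
  apply exists_prime_not_dvd (by positivity) (by norm_num)
  · intro ℓ hℓ h3 h9
    have : ℓ = 3 := (Nat.prime_dvd_prime_iff_eq hℓ Nat.prime_three).1 h3
    subst this
    exact not9_3 q h9
  · intro hd
    have := Nat.le_of_dvd (by norm_num) hd
    nlinarith

lemma card_W6 (E : DData chevE6) {r : ℕ} (hr : r.Prime) (h : 7 ≤ r) : ¬ r ∣ Nat.card E.rp.wsys.W := by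
  rw [card_W_E6]
  intro hd
  have h1 : r ∣ (2 ^ 7 * 3 ^ 4) * 5 := by simpa using hd
  rcases (Nat.Prime.dvd_mul hr).1 h1 with h2 | h2
  · rcases (Nat.Prime.dvd_mul hr).1 h2 with h2 | h2
    · have := Nat.le_of_dvd (by norm_num) (hr.dvd_of_dvd_pow h2); omega
    · have := Nat.le_of_dvd (by norm_num) (hr.dvd_of_dvd_pow h2); omega
  · have := Nat.le_of_dvd (by norm_num) h2; omega

/-- the frame of type E6 -/
theorem frame6 (E : DData chevE6) {F K : Type*} [Field F] [Fintype F] [Field K] [Fintype K] (ι : F →+* K) (σ : K →+* K)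
    {q N : ℕ} (hF : Fintype.card F = q) (hσ : ∀ t, σ t = t ^ q) (hι : ∀ t, σ (ι t) = ι t)
    (hK : Fintype.card K = q ^ N) (h12 : 12 ∣ N) {r : ℕ} [hr : Fact r.Prime] (hrq : r ∣ q ^ 4 - q ^ 2 + 1) (hr12 : ¬ r ∣ 12) :
    ∃ g ∈ chevE6.group K, ∃ n ∈ (chev E (good_of_mem hE6) K).N, ∃ u ∈ E.rp.wsys.W,
      (chev E (good_of_mem hE6) K).Act n u ∧ g⁻¹ * glMap chevE6.Idx σ g = n ∧
      (∃ v : Fin 6 → ℤ, v ≠ 0 ∧ (aeval (wm6 E u) (cyclotomic 12 ℤ)) *ᵥ v = 0) ∧
      ∃ z : ↥(chevE6.group F), orderOf z = r ∧ g⁻¹ * glMap chevE6.Idx ι (z : GL chevE6.Idx F) * g ∈ chevE6.diagonalSubgroup K ∧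
        (∀ s, ev (g⁻¹ * glMap chevE6.Idx ι (z : GL chevE6.Idx F) * g) (u s) =
          ev (g⁻¹ * glMap chevE6.Idx ι (z : GL chevE6.Idx F) * g) s ^ q) ∧
        ∀ s, ev (g⁻¹ * glMap chevE6.Idx ι (z : GL chevE6.Idx F) * g) s ≠ 1 := by
  have G := good_of_mem hE6
  have hq2 : 2 ≤ q := by rw [← hF]; exact two_le_card F
  have hq0 : 0 < q := by omega
  haveI : Finite (GL chevE6.Idx F) := inferInstance
  haveI : Finite (GL chevE6.Idx K) := inferInstance
  have hrz : (r : ℤ) ∣ (cyclotomic 12 ℤ).eval (q : ℤ) := by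
    rw [← Int.dvd_natAbs, cyc12_nat]; exact_mod_cast hrq
  have hord := orderOf_of_cyclotomic hrz hr12
  have hr13 := lt_of_orderOf hrz hr12 (by norm_num)
  have hW := card_W6 E hr.out (by omega)
  have hqd : (q : ZMod r) ^ 12 = 1 := by rw [← hord]; exact pow_orderOf_eq_one _
  have hr1 : r ∣ Fintype.card K - 1 := by
    obtain ⟨k, hk⟩ := h12
    have h1 : (q : ZMod r) ^ N = 1 := by rw [hk, pow_mul, hqd, one_pow]
    have h2 : 1 ≤ q ^ N := Nat.one_le_pow _ _ hq0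
    rw [hK, ← ZMod.natCast_eq_zero_iff, Nat.cast_sub h2]
    push_cast
    rw [h1, sub_self]
  have hG : r ∣ Nat.card (chevE6.group F) := by
    have h1 := Cfsg.Agent.S1063.result hF
    have h2 : r ∣ q ^ 12 - 1 := by
      have := hrz.trans (dvd_pow_sub_one hq0 (by norm_num : 0 < 12))
      exact_mod_cast this
    have h3 : r ∣ Nat.gcd 3 (q - 1) * Nat.card (chevE6.group F) := by
      rw [h1]; exact h2.mul_left _
    rcases (Nat.Prime.dvd_mul hr.out).1 h3 with h4 | h4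
    · exfalso
      have := Nat.le_of_dvd (by norm_num) (h4.trans (Nat.gcd_dvd_left _ _))
      omega
    · exact h4
  obtain ⟨z, hz⟩ := exists_prime_orderOf_dvd_card' r hG
  set P : Subgroup (GL chevE6.Idx F) := (Subgroup.zpowers z).map (chevE6.group F).subtype with hP
  have hPG : P ≤ chevE6.group F := by
    rintro _ ⟨y, -, rfl⟩
    exact y.2
  have hPr : IsPGroup r ↥P := by
    apply IsPGroup.map
    apply IsPGroup.of_card (n := 1)
    rw [Nat.card_zpowers, hz, pow_one]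
  have hzP : (z : GL chevE6.Idx F) ∈ P := ⟨z, Subgroup.mem_zpowers z, rfl⟩
  obtain ⟨g, hg, h1, b, hb, n, hn, x, hx, hbnx, u, hu, hact, h2⟩ := exists_frame E hE6 hr1 hW ι hσ hι hPG hPr
  set t : GL chevE6.Idx K := g⁻¹ * glMap chevE6.Idx ι (z : GL chevE6.Idx F) * g with ht_def
  have ht : t ∈ chevE6.diagonalSubgroup K := h1 _ hzP
  obtain ⟨h3, h4, h5⟩ := h2 _ hzP
  rw [← ht_def] at h3 h4 h5
  have htr : t ^ r = 1 := by
    have h6 : t ^ r = g⁻¹ * (glMap chevE6.Idx ι (z : GL chevE6.Idx F)) ^ r * g := by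
      rw [ht_def]
      have := conj_pow (i := r) (a := g⁻¹) (b := glMap chevE6.Idx ι (z : GL chevE6.Idx F))
      rwa [inv_inv] at this
    have h7 : (z : GL chevE6.Idx F) ^ r = 1 := by
      have := pow_orderOf_eq_one z
      rw [hz] at this
      exact congrArg Subtype.val this
    rw [h6, ← map_pow, h7, map_one]; group
  have ht1 : t ≠ 1 := by
    intro h0
    have h6 : glMap chevE6.Idx ι (z : GL chevE6.Idx F) = 1 := by
      have : glMap chevE6.Idx ι (z : GL chevE6.Idx F) = g * t * g⁻¹ := by rw [ht_def]; group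
      rw [this, h0]; group
    have h7 : z = 1 := by
      apply Subtype.ext
      apply glMap_injective ι
      rw [h6]; exact (map_one _).symm
    rw [h7, orderOf_one] at hz
    exact hr.out.one_lt.ne hz
  obtain ⟨ζ, hζ, a, ha⟩ := exists_log E hE6 hr1 ht htr
  have hMW : (wm E u) ^ Nat.card E.rp.wsys.W = 1 := wm6_pow_W E hu
  obtain ⟨v, hv0, hv⟩ := exists_vec (M := wm E u) Nat.card_pos hMW hW (log_ne_zero E hE6 hr.out.ne_zero hζ ht ht1 ha)
    (log_eigen E hE6 hr.out.ne_zero hζ ht ha h3)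
  rw [hord] at hv
  have hqinj : ∀ x y : K, x ^ q = y ^ q → x = y := by
    intro x y hxy
    rw [← hσ, ← hσ] at hxy
    exact σ.injective hxy
  have hR : ((cyclotomic 3 ℤ).map (Int.castRingHom (ZMod r))).eval (q : ZMod r) ≠ 0 := by
    rw [map_cyclotomic]
    intro h0
    have hr3 : ¬ r ∣ 3 := fun h => by have := Nat.le_of_dvd (by norm_num) h; omega
    have : NeZero ((3 : ℕ) : ZMod r) := ⟨fun h => hr3 ((ZMod.natCast_eq_zero_iff 3 r).1 h)⟩
    have h6 : IsPrimitiveRoot (q : ZMod r) 3 := isRoot_cyclotomic_iff.1 h0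
    have := h6.eq_orderOf
    omega
  have hreg : ∀ s, ev t s ≠ 1 := reg6 E hu hv0 hv ht ht1 hζ ha hqinj h3 hW hR
  have hb1 : b = 1 := cent_U hE6 ht hreg hb h5
  have hx1 : x = 1 := by
    refine cent_U hE6 (pow_mem ht q) (fun s => ?_) hx h4
    rw [ev_pow hE6 ht]
    intro h0
    apply hreg s
    apply hqinj
    rw [h0, one_pow]
  have hgn : g⁻¹ * glMap chevE6.Idx σ g = n := by rw [hbnx, hb1, hx1, one_mul, mul_one]
  exact ⟨g, hg, n, hn, u, hu, hact, hgn, ⟨v, hv0, hv⟩, z, hz, ht, h3, hreg⟩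

/-- the self-centralizing torus of type E6 -/
theorem torus_E6 {F : Type*} [Field F] [Fintype F] (q : ℕ) (hF : Fintype.card F = q) :
    ∃ H : Subgroup ↥(chevE6.group F), IsCyclic ↥H ∧
      Nat.card ↥H = (q ^ 4 - q ^ 2 + 1) * (q ^ 2 + q + 1) / Nat.gcd 3 (q - 1) ∧
      Subgroup.centralizer (H : Set ↥(chevE6.group F)) = H := by
  have G := good_of_mem hE6
  have S := sp_of_mem hE6
  obtain ⟨E⟩ := DData.nonempty_of_mem (D := chevE6) hE6
  have hq2 : 2 ≤ q := by rw [← hF]; exact two_le_card F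
  have hq0 : 0 < q := by omega
  obtain ⟨K, i1, i2, ι, σ, hK, hσ, hι, hfix⟩ := exists_ext hF (Nat.mul_pos (Nat.card_pos (α := E.rp.wsys.W)) (by norm_num : 0 < 12))
  obtain ⟨N, hN⟩ : ∃ N, N = Nat.card E.rp.wsys.W * 12 := ⟨_, rfl⟩
  rw [← hN] at hK
  have hWN : Nat.card E.rp.wsys.W ∣ N := by rw [hN]; exact Dvd.intro _ rfl
  have h12N : 12 ∣ N := by rw [hN]; exact Dvd.intro_left _ rfl
  obtain ⟨r, hrp, hrq, hr12⟩ := exists_r12 hq2
  haveI hr : Fact r.Prime := ⟨hrp⟩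
  obtain ⟨g, hg, n, hn, u, hu, hact, hgn, ⟨v, hv0, hv⟩, z, hz, ht, htu, hreg⟩ := frame6 E ι σ hF hσ hι hK h12N hrq hr12
  have hrz : (r : ℤ) ∣ (cyclotomic 12 ℤ).eval (q : ℤ) := by
    rw [← Int.dvd_natAbs, cyc12_nat]; exact_mod_cast hrq
  have hord := orderOf_of_cyclotomic hrz hr12
  have hr13 := lt_of_orderOf hrz hr12 (by norm_num)
  have hW := card_W6 E hr.out (by omega)
  have hqinj : ∀ x y : K, x ^ q = y ^ q → x = y := by
    intro x y hxy
    rw [← hσ, ← hσ] at hxy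
    exact σ.injective hxy
  have hcop : ∀ ℓ : ℕ, (q : ZMod ℓ) ^ 12 = 1 → ℓ ∣ Fintype.card K - 1 := by
    intro ℓ h
    obtain ⟨k, hk⟩ := h12N
    have h1 : (q : ZMod ℓ) ^ N = 1 := by rw [hk, pow_mul, h, one_pow]
    have h2 : 1 ≤ q ^ N := Nat.one_le_pow _ _ hq0
    rw [hK, ← ZMod.natCast_eq_zero_iff, Nat.cast_sub h2]
    push_cast
    rw [h1, sub_self]
  -- the torus of the Steinberg group
  have hinj : Function.Injective ((stOf G K).tor S) :=
    Mult.tor_injective G S (good_of_mem (D := chevE8) (by simp [data]))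
      (Mult.emb_of_chk G.toGood1 Mult.slData_E6.sl Mult.slData_E8.sl Mult.chkEmb_E6) (by decide)
  obtain ⟨f, hf, hf2, hfk⟩ := sc_hom E hE6 S sym6 hinj ι σ hι hfix hσ hg hn hact hgn
  have hcp' := cp6' E hu hv0 hv
  have hcardS : Nat.card (ChevU.mon (A := Kˣ) (Amat E q u)).ker = (q ^ 4 - q ^ 2 + 1) * (q ^ 2 + q + 1) := by
    rw [card_ker_Amat E hE6 hu hq0 hWN hK hcp', eval_mul, Int.natAbs_mul, cyc12_nat, cyc3_nat]
  have hcyc : IsCyclic (ChevU.mon (A := Kˣ) (Amat E q u)).ker := by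
    apply cyclic_ker_Amat
    intro ℓ hℓ
    by_cases hℓ12 : ℓ ∣ 12
    · left
      rw [hcardS]
      intro hd
      rcases prime_dvd_12 hℓ.out hℓ12 with rfl | rfl
      · have h1 : 2 ∣ (q ^ 4 - q ^ 2 + 1) * (q ^ 2 + q + 1) := (dvd_pow_self 2 (by norm_num)).trans hd
        rcases (Nat.Prime.dvd_mul Nat.prime_two).1 h1 with h2 | h2
        · exact not2_12 q h2
        · exact not2_3 q h2
      · have h1 : Nat.Coprime (3 ^ 2) (q ^ 4 - q ^ 2 + 1) := by
          apply Nat.Coprime.pow_left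
          exact (Nat.Prime.coprime_iff_not_dvd Nat.prime_three).2 (not3_12 q)
        have h2 := h1.dvd_of_dvd_mul_left hd
        exact not9_3 q h2
    · right
      have h1 : (wm E u⁻¹)ᵀ.charpoly = cyclotomic 12 ℤ * cyclotomic 3 ℤ := by
        rw [Matrix.charpoly_transpose]; exact hcp'
      have h2 : (cyclotomic 12 ℤ * cyclotomic 3 ℤ) ∣ X ^ 12 - 1 := by
        refine ⟨(X ^ 2 - 1) * (X ^ 2 + 1) * (X ^ 2 - X + 1), ?_⟩
        rw [cyc12, cyclotomic_three]; ring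
      exact finrank_ker_le' h1 h2 hℓ12 q
  have hcardK : Nat.card f.ker = Nat.gcd 3 (q - 1) := by
    rw [hfk, Mult.card_chi Mult.cyc_E6, Nat.gcd_comm, Nat.card_units, Nat.card_eq_fintype_card, hF]
  have hcardT : Nat.gcd 3 (q - 1) * Nat.card f.range = (q ^ 4 - q ^ 2 + 1) * (q ^ 2 + q + 1) := by
    have h1 := Subgroup.card_eq_card_quotient_mul_card_subgroup f.ker
    rw [Nat.card_congr (QuotientGroup.quotientKerEquivRange f).toEquiv, hcardS, hcardK] at h1
    rw [h1, mul_comm]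
  have hgcd0 : 0 < Nat.gcd 3 (q - 1) := Nat.gcd_pos_of_pos_left _ (by norm_num)
  -- membership
  have hmem : ∀ y : ↥(chevE6.group F), y ∈ f.range ↔ g⁻¹ * glMap chevE6.Idx ι (y : GL chevE6.Idx F) * g ∈ chevE6.diagonalSubgroup K := by
    intro y
    constructor
    · rintro ⟨c, rfl⟩
      rw [hf]
      have : g⁻¹ * (g * (stOf G K).θ ((stOf G K).tor S (c : Fin chevE6.rank → Kˣ)) * g⁻¹) * g =
          (stOf G K).θ ((stOf G K).tor S (c : Fin chevE6.rank → Kˣ)) := by group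
      rw [this]
      exact tor_mem_diag hE6 S _
    · intro hy
      obtain ⟨c, hc⟩ := hf2 y hy
      exact ⟨c, hc⟩
  refine ⟨f.range, isCyclic_of_surjective f.rangeRestrict f.rangeRestrict_surjective, ?_, ?_⟩
  · rw [← hcardT, Nat.mul_div_cancel_left _ hgcd0]
  · -- a second element
    obtain ⟨r', hrp', hrq', hr3'⟩ := exists_r3 hq2
    haveI hr' : Fact r'.Prime := ⟨hrp'⟩
    have hrz' : (r' : ℤ) ∣ (cyclotomic 3 ℤ).eval (q : ℤ) := by
      rw [← Int.dvd_natAbs, cyc3_nat]; exact_mod_cast hrq'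
    have hord' := orderOf_of_cyclotomic hrz' hr3'
    have hr7' : 7 ≤ r' := by
      have h1 := lt_of_orderOf hrz' hr3' (by norm_num)
      have h2 : (q : ZMod r') ≠ 0 := by
        intro h0
        rw [h0, orderOf_eq_zero_iff'.2 (fun n hn => by rw [zero_pow hn.ne']; exact zero_ne_one)] at hord'
        omega
      have h3 : (q : ZMod r') ^ (r' - 1) = 1 := ZMod.pow_card_sub_one_eq_one h2
      have h4 := orderOf_dvd_of_pow_eq_one h3
      rw [hord'] at h4
      by_contra hcon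
      have h5 : r' = 4 ∨ r' = 5 ∨ r' = 6 := by omega
      rcases h5 with rfl | rfl | rfl
      · exact absurd hrp' (by norm_num)
      · norm_num at h4
      · exact absurd hrp' (by norm_num)
    have hW' := card_W6 E hr'.out hr7'
    have hqd' : (q : ZMod r') ^ 12 = 1 := by
      have : (q : ZMod r') ^ 3 = 1 := by rw [← hord']; exact pow_orderOf_eq_one _
      rw [show (12 : ℕ) = 3 * 4 by norm_num, pow_mul, this, one_pow]
    have hqd : (q : ZMod r) ^ 12 = 1 := by rw [← hord]; exact pow_orderOf_eq_one _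
    have hrT : r' ∣ Nat.card f.range := by
      have h1 : r' ∣ Nat.gcd 3 (q - 1) * Nat.card f.range := by rw [hcardT]; exact hrq'.mul_left _
      rcases (Nat.Prime.dvd_mul hr'.out).1 h1 with h4 | h4
      · exact absurd (h4.trans (Nat.gcd_dvd_left _ _)) hr3'
      · exact h4
    obtain ⟨z', hz'⟩ := exists_prime_orderOf_dvd_card' r' hrT
    obtain ⟨t, ht_def⟩ : ∃ t, t = g⁻¹ * glMap chevE6.Idx ι (z : GL chevE6.Idx F) * g := ⟨_, rfl⟩
    obtain ⟨t', ht_def'⟩ : ∃ t', t' = g⁻¹ * glMap chevE6.Idx ι ((z' : ↥(chevE6.group F)) : GL chevE6.Idx F) * g := ⟨_, rfl⟩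
    have ht' : t' ∈ chevE6.diagonalSubgroup K := by rw [ht_def']; exact (hmem _).1 z'.2
    rw [← ht_def] at ht htu hreg
    have hpow : ∀ (y : GL chevE6.Idx F) (m : ℕ), y ^ m = 1 → (g⁻¹ * glMap chevE6.Idx ι y * g) ^ m = 1 := by
      intro y m hy
      have := conj_pow (i := m) (a := g⁻¹) (b := glMap chevE6.Idx ι y)
      rw [inv_inv] at this
      rw [this, ← map_pow, hy, map_one]; group
    have hne : ∀ y : ↥(chevE6.group F), y ≠ 1 → g⁻¹ * glMap chevE6.Idx ι (y : GL chevE6.Idx F) * g ≠ 1 := by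
      intro y hy h0
      apply hy
      apply Subtype.ext
      apply glMap_injective ι
      have : glMap chevE6.Idx ι (y : GL chevE6.Idx F) = g * (g⁻¹ * glMap chevE6.Idx ι (y : GL chevE6.Idx F) * g) * g⁻¹ := by group
      rw [this, h0, mul_one, mul_inv_cancel]
      exact (map_one _).symm
    have htr : t ^ r = 1 := by
      rw [ht_def]; apply hpow
      have := pow_orderOf_eq_one z
      rw [hz] at this
      exact congrArg Subtype.val this
    have htr' : t' ^ r' = 1 := by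
      rw [ht_def']; apply hpow
      have := pow_orderOf_eq_one z'
      rw [hz'] at this
      exact congrArg (fun y : f.range => ((y : ↥(chevE6.group F)) : GL chevE6.Idx F)) this
    have ht1 : t ≠ 1 := by
      rw [ht_def]; apply hne
      intro h0
      rw [h0, orderOf_one] at hz
      exact hr.out.one_lt.ne hz
    have ht1' : t' ≠ 1 := by
      rw [ht_def']; apply hne
      intro h0
      have : z' = 1 := Subtype.ext h0
      rw [this, orderOf_one] at hz'
      exact hr'.out.one_lt.ne hz'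
    obtain ⟨ζ, hζ, a, ha⟩ := exists_log E hE6 (hcop r hqd) ht htr
    obtain ⟨ζ', hζ', a', ha'⟩ := exists_log E hE6 (hcop r' hqd') ht' htr'
    have hσι : ∀ y : GL chevE6.Idx F, glMap chevE6.Idx σ (glMap chevE6.Idx ι y) = glMap chevE6.Idx ι y := by
      intro y
      apply Units.ext
      rw [glMap_coe, glMap_coe]
      ext i j
      simp [hι]
    have htu' : ∀ s, ev t' (u s) = ev t' s ^ q := by
      intro s
      have h6 : n * t' ^ q * n⁻¹ = t' := by
        rw [← glMap_frob hE6 hσ ht', ← hgn, ht_def']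
        simp only [map_mul, map_inv, hσι]
        group
      have h7 := N_conj_ev E hE6 hn hact (pow_mem ht' q) s
      rw [h6, ev_pow hE6 ht'] at h7
      exact h7
    have hR : ((cyclotomic 3 ℤ).map (Int.castRingHom (ZMod r))).eval (q : ZMod r) ≠ 0 := by
      rw [map_cyclotomic]
      intro h0
      have hr3 : ¬ r ∣ 3 := fun h => by have := Nat.le_of_dvd (by norm_num) h; omega
      have : NeZero ((3 : ℕ) : ZMod r) := ⟨fun h => hr3 ((ZMod.natCast_eq_zero_iff 3 r).1 h)⟩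
      have h6 : IsPrimitiveRoot (q : ZMod r) 3 := isRoot_cyclotomic_iff.1 h0
      have := h6.eq_orderOf
      omega
    have hR' : ((cyclotomic 12 ℤ).map (Int.castRingHom (ZMod r'))).eval (q : ZMod r') ≠ 0 := by
      rw [map_cyclotomic]
      intro h0
      have hr12' : ¬ r' ∣ 12 := fun h => by
        rcases prime_dvd_12 hrp' h with h | h
        · omega
        · omega
      have : NeZero ((12 : ℕ) : ZMod r') := ⟨fun h => hr12' ((ZMod.natCast_eq_zero_iff 12 r').1 h)⟩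
      have h6 : IsPrimitiveRoot (q : ZMod r') 12 := isRoot_cyclotomic_iff.1 h0
      have := h6.eq_orderOf
      omega
    have hst := stab6 E hu hv0 hv ht ht1 ht' ht1' hζ hζ' ha ha' hqinj htu htu' hW hW' hR hR'
    have hzT : z ∈ f.range := (hmem z).2 (by rw [← ht_def]; exact ht)
    ext y
    rw [Subgroup.mem_centralizer_iff]
    constructor
    · intro hy
      rw [hmem]
      have h6 := hy z hzT
      have h7 := hy z' z'.2
      have conj : ∀ x : ↥(chevE6.group F), x * y = y * x →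
          (g⁻¹ * glMap chevE6.Idx ι (y : GL chevE6.Idx F) * g) * (g⁻¹ * glMap chevE6.Idx ι (x : GL chevE6.Idx F) * g) =
          (g⁻¹ * glMap chevE6.Idx ι (x : GL chevE6.Idx F) * g) * (g⁻¹ * glMap chevE6.Idx ι (y : GL chevE6.Idx F) * g) := by
        intro x hx
        have e : glMap chevE6.Idx ι (x : GL chevE6.Idx F) * glMap chevE6.Idx ι (y : GL chevE6.Idx F) =
            glMap chevE6.Idx ι (y : GL chevE6.Idx F) * glMap chevE6.Idx ι (x : GL chevE6.Idx F) := by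
          rw [← map_mul, ← map_mul, ← Subgroup.coe_mul, ← Subgroup.coe_mul, hx]
        calc g⁻¹ * glMap chevE6.Idx ι (y : GL chevE6.Idx F) * g * (g⁻¹ * glMap chevE6.Idx ι (x : GL chevE6.Idx F) * g)
            = g⁻¹ * (glMap chevE6.Idx ι (y : GL chevE6.Idx F) * glMap chevE6.Idx ι (x : GL chevE6.Idx F)) * g := by group
          _ = g⁻¹ * (glMap chevE6.Idx ι (x : GL chevE6.Idx F) * glMap chevE6.Idx ι (y : GL chevE6.Idx F)) * g := by rw [e]
          _ = _ := by group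
      refine cent_eq2 E hE6 ht ht' hreg hst (mul_mem (mul_mem (inv_mem hg) (glMap_mem ι y.2)) hg) ?_ ?_
      · rw [ht_def]; exact conj z h6
      · rw [ht_def']; exact conj z' h7
    · intro hy y' hy'
      have h6 := diag_comm hE6 ((hmem y').1 hy') ((hmem y).1 hy)
      apply Subtype.ext
      apply glMap_injective ι
      rw [Subgroup.coe_mul, Subgroup.coe_mul, map_mul, map_mul]
      calc glMap chevE6.Idx ι (y' : GL chevE6.Idx F) * glMap chevE6.Idx ι (y : GL chevE6.Idx F)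
          = g * ((g⁻¹ * glMap chevE6.Idx ι (y' : GL chevE6.Idx F) * g) * (g⁻¹ * glMap chevE6.Idx ι (y : GL chevE6.Idx F) * g)) * g⁻¹ := by group
        _ = g * ((g⁻¹ * glMap chevE6.Idx ι (y : GL chevE6.Idx F) * g) * (g⁻¹ * glMap chevE6.Idx ι (y' : GL chevE6.Idx F) * g)) * g⁻¹ := by rw [h6]
        _ = _ := by group

end Cfsg.Agent.ChevF
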