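import Cfsg.Agent.ChevF.ScTor3

set_option autoImplicit false

/-!
The Weyl group of type E6 as a group of isometries (helper19).
-/

namespace Cfsg.Agent.ChevF

open Cfsg.Lie Cfsg.Agent.Chev Cfsg.Agent.ChevGrp Cfsg.Agent.Steinb Matrix Polynomial

lemma hE6 : chevE6 ∈ data := by simp [data]

/-- fundamental reflections in rank six -/
def Rm6 (i : Fin 6) : Matrix (Fin 6) (Fin 6) ℤ := Rm chevE6 i

lemma cart6 : (Matrix.of fun i j : Fin 6 => chevE6.cartan i (chevE6.simple j)) = CE6 := by decide +kernel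

lemma Rm_C6 : ∀ i : Fin 6, (Rm6 i)ᵀ * CE6 * Rm6 i = CE6 := by decide +kernel

lemma Rm_ρ6 : ∀ i : Fin 6, ((Rm6 i).map (Int.castRingHom (ZMod 3))) *ᵥ ![1, 0, 2, 0, 1, 2] =
    ![1, 0, 2, 0, 1, 2] := by decide +kernel

lemma Rm6_eq : ∀ i : Fin 6, Rm6 i = 1 - Matrix.of fun k j => if k = i then CE6 i j else 0 := by decide +kernel

lemma sym6 : SymC chevE6 := by
  have h : ∀ i j : Fin 6, chevE6.cartan i (chevE6.simple j) = chevE6.cartan j (chevE6.simple i) := by decide +kernel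
  exact h

variable (E : DData chevE6)

/-- the matrix of a Weyl group element, in rank six -/
noncomputable def wm6 (u : Equiv.Perm (Fin chevE6.nroots)) : Matrix (Fin 6) (Fin 6) ℤ := wm E u

/-- root coordinates -/
def rv6 (s : Fin chevE6.nroots) : Fin 6 → ℤ := rv chevE6 s

/-- fundamental reflections as permutations -/
noncomputable def w6 (i : Fin 6) : Equiv.Perm (Fin chevE6.nroots) := E.rp.wsys.w i

/-- fundamental roots -/
noncomputable def p6 (i : Fin 6) : Fin chevE6.nroots := E.rp.wsys.p i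

lemma wm6_one : wm6 E 1 = 1 := wm_one E (good_of_mem hE6)

lemma wm6_w (i : Fin 6) (u : Equiv.Perm (Fin chevE6.nroots)) : wm6 E (w6 E i * u) = Rm6 i * wm6 E u :=
  wm_w_mul E (good_of_mem hE6) i u

lemma wm6_mul {u v : Equiv.Perm (Fin chevE6.nroots)} (hu : u ∈ E.rp.wsys.W) : wm6 E (u * v) = wm6 E u * wm6 E v :=
  wm_mul E (good_of_mem hE6) hu

lemma W6_ind {Q : Equiv.Perm (Fin chevE6.nroots) → Prop} (h1 : Q 1) (h2 : ∀ i : Fin 6, ∀ u ∈ E.rp.wsys.W, Q u → Q (w6 E i * u))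
    {u : Equiv.Perm (Fin chevE6.nroots)} (hu : u ∈ E.rp.wsys.W) : Q u :=
  E.rp.wsys.W_induction (Q := Q) h1 (fun i u hu h => h2 i u hu h) hu

lemma conj6 (s : Fin chevE6.nroots) : ∃ u ∈ E.rp.wsys.W, ∃ i : Fin 6, u (p6 E i) = s := E.rp.wsys.exists_conj_p s

lemma w6_mem (i : Fin 6) : w6 E i ∈ E.rp.wsys.W := E.rp.wsys.w_mem i

lemma wm6_C {u : Equiv.Perm (Fin chevE6.nroots)} (hu : u ∈ E.rp.wsys.W) : (wm6 E u)ᵀ * CE6 * wm6 E u = CE6 := by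
  refine W6_ind E (Q := fun u => (wm6 E u)ᵀ * CE6 * wm6 E u = CE6) ?_ ?_ hu
  · rw [wm6_one, Matrix.transpose_one, one_mul, mul_one]
  · intro i u _ ih
    have h2 := Rm_C6 i
    rw [wm6_w, Matrix.transpose_mul]
    calc (wm6 E u)ᵀ * (Rm6 i)ᵀ * CE6 * (Rm6 i * wm6 E u)
        = (wm6 E u)ᵀ * ((Rm6 i)ᵀ * CE6 * Rm6 i) * wm6 E u := by noncomm_ring
      _ = CE6 := by rw [h2, ih]

lemma wm6_ρ {u : Equiv.Perm (Fin chevE6.nroots)} (hu : u ∈ E.rp.wsys.W) :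
    ((wm6 E u).map (Int.castRingHom (ZMod 3))) *ᵥ ![1, 0, 2, 0, 1, 2] = ![1, 0, 2, 0, 1, 2] := by
  refine W6_ind E (Q := fun u => ((wm6 E u).map (Int.castRingHom (ZMod 3))) *ᵥ ![1, 0, 2, 0, 1, 2] = ![1, 0, 2, 0, 1, 2]) ?_ ?_ hu
  · rw [wm6_one, Matrix.map_one _ (map_zero _) (map_one _), Matrix.one_mulVec]
  · intro i u _ ih
    rw [wm6_w, Matrix.map_mul, ← Matrix.mulVec_mulVec, ih]
    exact Rm_ρ6 i

lemma rv6_p (i : Fin 6) : rv6 (p6 E i) = Pi.single i 1 := by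
  have G := good_of_mem hE6
  funext k
  have h1 : rv6 (p6 E i) k = if (i : ℕ) = k then 1 else 0 := by
    show vec chevE6 (p6 E i) k = _
    have h2 : ((p6 E i : Fin chevE6.nroots) : ℕ) = chevE6.simple i := p_val E i
    rw [h2]
    exact G.vec_simple i i.2 k k.2
  rw [h1, Pi.single_apply]
  by_cases h : k = i
  · rw [if_pos h, if_pos (by rw [h])]
  · rw [if_neg h, if_neg (by rw [Fin.val_inj]; exact fun h' => h h'.symm)]

lemma rv6_W {u : Equiv.Perm (Fin chevE6.nroots)} (hu : u ∈ E.rp.wsys.W) (s : Fin chevE6.nroots) :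
    rv6 (u s) = wm6 E u *ᵥ rv6 s := rv_W E (good_of_mem hE6) hu s

include E in
lemma norm6 (s : Fin chevE6.nroots) : rv6 s ⬝ᵥ (CE6 *ᵥ rv6 s) = 2 := by
  obtain ⟨u, hu, i, rfl⟩ := conj6 E s
  rw [rv6_W E hu, dot_inv (wm6_C E hu), rv6_p, Matrix.mulVec_single_one, single_one_dotProduct]
  revert i
  decide

/-- reflections -/
theorem exists_refl6 (s : Fin chevE6.nroots) : ∃ w ∈ E.rp.wsys.W,
    ∀ x : Fin 6 → ℤ, wm6 E w *ᵥ x = x - (rv6 s ⬝ᵥ (CE6 *ᵥ x)) • rv6 s := by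
  obtain ⟨u, hu, i, rfl⟩ := conj6 E s
  refine ⟨u * w6 E i * u⁻¹, mul_mem (mul_mem hu (w6_mem E i)) (inv_mem hu), fun x => ?_⟩
  have h1 : wm6 E (u * w6 E i * u⁻¹) = wm6 E u * Rm6 i * wm6 E u⁻¹ := by
    have e2 : wm6 E (w6 E i) = Rm6 i := by
      have := wm6_w E i 1
      rw [mul_one, wm6_one, mul_one] at this
      exact this
    rw [wm6_mul E (mul_mem hu (w6_mem E i)), wm6_mul E hu, e2]
  have h2 : wm6 E u * wm6 E u⁻¹ = 1 := by rw [← wm6_mul E hu, mul_inv_cancel, wm6_one]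
  have hR : ∀ y : Fin 6 → ℤ, Rm6 i *ᵥ y = y - ((Pi.single i 1 : Fin 6 → ℤ) ⬝ᵥ (CE6 *ᵥ y)) • (Pi.single i 1 : Fin 6 → ℤ) := by
    intro y
    rw [single_one_dotProduct, Rm6_eq, Matrix.sub_mulVec, Matrix.one_mulVec]
    congr 1
    funext k
    rw [Pi.smul_apply, Pi.single_apply, smul_eq_mul]
    simp only [Matrix.mulVec, dotProduct, Matrix.of_apply]
    by_cases hk : k = i
    · simp only [if_pos hk, mul_one]
    · simp only [if_neg hk, zero_mul, Finset.sum_const_zero, mul_zero]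
  have h3 : ∀ y, (wm6 E u *ᵥ (Pi.single i 1)) ⬝ᵥ (CE6 *ᵥ (wm6 E u *ᵥ y)) = (Pi.single i 1 : Fin 6 → ℤ) ⬝ᵥ (CE6 *ᵥ y) := fun y =>
    dot_inv (wm6_C E hu) _ y
  have h4 : wm6 E u *ᵥ (wm6 E u⁻¹ *ᵥ x) = x := by rw [Matrix.mulVec_mulVec, h2, Matrix.one_mulVec]
  rw [rv6_W E hu, rv6_p, h1, ← Matrix.mulVec_mulVec, ← Matrix.mulVec_mulVec, hR, Matrix.mulVec_sub, Matrix.mulVec_smul, h4]
  congr 2
  have := h3 (wm6 E u⁻¹ *ᵥ x)
  rw [h4] at this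
  exact this.symm

/-- reflections in the kernel of a torus element stabilize it -/
lemma refl_stab6 {K : Type*} [Field K] {t : GL chevE6.Idx K} (ht : t ∈ chevE6.diagonalSubgroup K) {s : Fin chevE6.nroots}
    (hs : ev t s = 1) {w : Equiv.Perm (Fin chevE6.nroots)} (hw : w ∈ E.rp.wsys.W)
    (h : ∀ x : Fin 6 → ℤ, wm6 E w *ᵥ x = x - (rv6 s ⬝ᵥ (CE6 *ᵥ x)) • rv6 s) (x : Fin chevE6.nroots) : ev t (w x) = ev t x := by
  have h1 : ev t (w x) = ev t x ^ (1 : ℤ) * ev t s ^ (-(rv6 s ⬝ᵥ (CE6 *ᵥ rv6 x))) := by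
    apply ev_lin hE6 ht
    intro j hj
    have h2 : rv6 (w x) ⟨j, hj⟩ = rv6 x ⟨j, hj⟩ - (rv6 s ⬝ᵥ (CE6 *ᵥ rv6 x)) * rv6 s ⟨j, hj⟩ := by
      rw [rv6_W E hw x, h, Pi.sub_apply, Pi.smul_apply, smul_eq_mul]
    have h3 : vec chevE6 (w x) j = vec chevE6 x j - (rv6 s ⬝ᵥ (CE6 *ᵥ rv6 x)) * vec chevE6 s j := h2
    rw [h3]; ring
  rw [h1, hs, _root_.one_zpow, mul_one, _root_.zpow_one]

/-- the norm of a subgroup -/
theorem exists_Nm6 {K : Type*} [Field K] {S : Subgroup (Equiv.Perm (Fin chevE6.nroots))} (hSW : S ≤ E.rp.wsys.W)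
    {u : Equiv.Perm (Fin chevE6.nroots)} (hu : u ∈ E.rp.wsys.W) (hnorm : ∀ v ∈ S, u⁻¹ * v * u ∈ S) :
    ∃ Nm : Matrix (Fin 6) (Fin 6) ℤ,
      (∀ R : ℤ[X], ∀ v ∈ S, wm6 E v * (aeval (wm6 E u) R * Nm) = aeval (wm6 E u) R * Nm) ∧
      ∀ (t : GL chevE6.Idx K) (r : ℕ) [Fact r.Prime] (z : K) (a : Fin chevE6.rank → ℤ) (q : ℕ), IsPrimitiveRoot z r →
        t ∈ chevE6.diagonalSubgroup K → t ≠ 1 → (∀ i, ev t (E.rp.wsys.p i) = z ^ a i) → (∀ s, ev t (u s) = ev t s ^ q) →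
        (∀ v ∈ S, ∀ s, ev t (v s) = ev t s) → ¬ r ∣ Nat.card E.rp.wsys.W → ∀ R : ℤ[X],
        (R.map (Int.castRingHom (ZMod r))).eval (q : ZMod r) ≠ 0 → aeval (wm6 E u) R * Nm ≠ 0 :=
  exists_Nm E hE6 hSW hu hnorm

section struct

variable {K : Type*} [Field K]

/-- the two polynomials -/
lemma aeval3 (M : Matrix (Fin 6) (Fin 6) ℤ) : aeval M (cyclotomic 3 ℤ) = M ^ 2 + M + 1 := by
  rw [cyclotomic_three]; simp

variable {u : Equiv.Perm (Fin chevE6.nroots)}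

lemma wm6_pow (hu : u ∈ E.rp.wsys.W) (k : ℕ) : wm6 E (u ^ k) = wm6 E u ^ k := wm_pow E (good_of_mem hE6) hu k

lemma wm6_pow_W (hu : u ∈ E.rp.wsys.W) : (wm6 E u) ^ Nat.card E.rp.wsys.W = 1 := by
  have huN : u ^ Nat.card E.rp.wsys.W = 1 := by
    have := pow_card_eq_one' (x := (⟨u, hu⟩ : E.rp.wsys.W))
    exact congrArg Subtype.val this
  rw [← wm6_pow E hu, huN, wm6_one]

variable (hu : u ∈ E.rp.wsys.W) {v : Fin 6 → ℤ} (hv : v ≠ 0)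
    (hv12 : (aeval (wm6 E u) (cyclotomic 12 ℤ)) *ᵥ v = 0)

include hu hv hv12

lemma cp6 : (wm6 E u).charpoly = cyclotomic 12 ℤ * cyclotomic 3 ℤ :=
  charpoly6 (wm6_C E hu) Nat.card_pos (wm6_pow_W E hu) (wm6_ρ E hu) hv hv12

lemma cp6' : (wm6 E u⁻¹).charpoly = cyclotomic 12 ℤ * cyclotomic 3 ℤ := by
  refine charpoly6 (wm6_C E (inv_mem hu)) Nat.card_pos (wm6_pow_W E (inv_mem hu)) (wm6_ρ E (inv_mem hu)) hv ?_
  have h1 : wm6 E u⁻¹ * wm6 E u = 1 := by rw [← wm6_mul E (inv_mem hu), inv_mul_cancel, wm6_one]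
  rw [aeval12] at hv12 ⊢
  have h2 : wm6 E u⁻¹ ^ 4 - wm6 E u⁻¹ ^ 2 + 1 = wm6 E u⁻¹ ^ 4 * (wm6 E u ^ 4 - wm6 E u ^ 2 + 1) := by
    have hc : Commute (wm6 E u⁻¹) (wm6 E u) := by
      have h3 : wm6 E u * wm6 E u⁻¹ = 1 := by rw [← wm6_mul E hu, mul_inv_cancel, wm6_one]
      rw [Commute, SemiconjBy, h1, h3]
    have e4 : wm6 E u⁻¹ ^ 4 * wm6 E u ^ 4 = 1 := by rw [← hc.mul_pow, h1, one_pow]
    have e2 : wm6 E u⁻¹ ^ 2 * wm6 E u ^ 2 = 1 := by rw [← hc.mul_pow, h1, one_pow]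
    have e3 : wm6 E u⁻¹ ^ 4 * wm6 E u ^ 2 = wm6 E u⁻¹ ^ 2 := by
      rw [show (4 : ℕ) = 2 + 2 by norm_num, pow_add, mul_assoc, e2, mul_one]
    rw [mul_add, mul_sub, e4, e3, mul_one]
    abel
  rw [h2, ← Matrix.mulVec_mulVec, hv12, Matrix.mulVec_zero]

/-- a vector of the other part -/
lemma exists_v3 : ∃ α : Fin 6 → ℤ, α ≠ 0 ∧ (aeval (wm6 E u) (cyclotomic 3 ℤ)) *ᵥ α = 0 := by
  have hcp := cp6 E hu hv hv12
  have h1 : aeval (wm6 E u) (cyclotomic 12 ℤ) ≠ 0 := by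
    intro h0
    set Mr := (wm6 E u).map (Int.castRingHom (ZMod 3)) with hMr
    have e1 : (aeval (wm6 E u) (cyclotomic 12 ℤ)).map (Int.castRingHom (ZMod 3)) = Mr ^ 4 - Mr ^ 2 + 1 := by
      rw [aeval12]
      have := map_add (RingHom.mapMatrix (m := Fin 6) (Int.castRingHom (ZMod 3))) (wm6 E u ^ 4 - wm6 E u ^ 2) 1
      rw [map_sub, map_pow, map_pow, map_one] at this
      exact this
    have h2 : ∀ k : ℕ, Mr ^ k *ᵥ ![1, 0, 2, 0, 1, 2] = ![1, 0, 2, 0, 1, 2] := by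
      intro k
      induction k with
      | zero => rw [pow_zero, Matrix.one_mulVec]
      | succ k ih => rw [pow_succ, ← Matrix.mulVec_mulVec, wm6_ρ E hu, ih]
    have h3 : (Mr ^ 4 - Mr ^ 2 + 1) *ᵥ ![1, 0, 2, 0, 1, 2] = ![1, 0, 2, 0, 1, 2] := by
      rw [Matrix.add_mulVec, Matrix.sub_mulVec, h2, h2, Matrix.one_mulVec, sub_self, zero_add]
    have h4 : (aeval (wm6 E u) (cyclotomic 12 ℤ)).map (Int.castRingHom (ZMod 3)) = 0 := by
      rw [h0]; exact map_zero (RingHom.mapMatrix (m := Fin 6) (Int.castRingHom (ZMod 3)))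
    rw [← e1, h4, Matrix.zero_mulVec] at h3
    have := congrFun h3 0
    revert this; decide
  have hex : ∃ j, (aeval (wm6 E u) (cyclotomic 12 ℤ)) *ᵥ (Pi.single j 1) ≠ 0 := by
    by_contra hcon
    push Not at hcon
    apply h1
    ext i j
    have := congrFun (hcon j) i
    rw [Matrix.mulVec_single_one] at this
    exact this
  obtain ⟨j, hj⟩ := hex
  refine ⟨_, hj, ?_⟩
  rw [Matrix.mulVec_mulVec, ← map_mul, mul_comm, ← hcp, Matrix.aeval_self_charpoly, Matrix.zero_mulVec]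

/-- an element of order `r` is regular -/
theorem reg6 {t : GL chevE6.Idx K} (ht : t ∈ chevE6.diagonalSubgroup K) (ht1 : t ≠ 1) {r : ℕ} [hr : Fact r.Prime] {z : K}
    (hz : IsPrimitiveRoot z r) {a : Fin chevE6.rank → ℤ} (ha : ∀ i, ev t (E.rp.wsys.p i) = z ^ a i) {q : ℕ}
    (hq : ∀ x y : K, x ^ q = y ^ q → x = y) (h : ∀ s, ev t (u s) = ev t s ^ q) (hW : ¬ r ∣ Nat.card E.rp.wsys.W)
    (hR : ((cyclotomic 3 ℤ).map (Int.castRingHom (ZMod r))).eval (q : ZMod r) ≠ 0) (s : Fin chevE6.nroots) : ev t s ≠ 1 := by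
  intro hs
  have G := good_of_mem hE6
  have hcp := cp6 E hu hv hv12
  obtain ⟨α', hα'0, hα'⟩ := exists_v3 E hu hv hv12
  let S : Subgroup (Equiv.Perm (Fin chevE6.nroots)) :=
    { carrier := {v | v ∈ E.rp.wsys.W ∧ ∀ s, ev t (v s) = ev t s}
      mul_mem' := fun {v w} hv hw => ⟨mul_mem hv.1 hw.1, fun s => by rw [Equiv.Perm.mul_apply, hv.2, hw.2]⟩
      one_mem' := ⟨one_mem _, fun s => rfl⟩
      inv_mem' := fun {v} hv => ⟨inv_mem hv.1, fun s => by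
        have := hv.2 (v⁻¹ s)
        have e : v (v⁻¹ s) = s := v.apply_symm_apply s
        rw [e] at this
        exact this.symm⟩ }
  have hSW : S ≤ E.rp.wsys.W := fun v hv => hv.1
  have hnorm : ∀ v ∈ S, u⁻¹ * v * u ∈ S := by
    intro v hv
    refine ⟨mul_mem (mul_mem (inv_mem hu) hv.1) hu, fun s => ?_⟩
    apply hq
    rw [← h, ← h]
    have : u ((u⁻¹ * v * u) s) = v (u s) := by simp [Equiv.Perm.mul_apply]
    rw [this, hv.2]
  obtain ⟨N, hN1', hN2⟩ := exists_Nm6 (K := K) E hSW hu hnorm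
  have h0 : aeval (wm6 E u) (cyclotomic 3 ℤ) * N ≠ 0 := hN2 t r z a q hz ht ht1 ha h (fun v hv => hv.2) hW _ hR
  have hex : ∃ j, (aeval (wm6 E u) (cyclotomic 3 ℤ) * N) *ᵥ (Pi.single j 1) ≠ 0 := by
    by_contra hcon
    push Not at hcon
    apply h0
    ext i j
    have := congrFun (hcon j) i
    rw [Matrix.mulVec_single_one] at this
    exact this
  obtain ⟨j, hj⟩ := hex
  obtain ⟨w, hwd⟩ : ∃ w, w = (aeval (wm6 E u) (cyclotomic 3 ℤ) * N) *ᵥ (Pi.single j 1) := ⟨_, rfl⟩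
  rw [← hwd] at hj
  have hw12 : (aeval (wm6 E u) (cyclotomic 12 ℤ)) *ᵥ w = 0 := by
    rw [hwd, Matrix.mulVec_mulVec, ← mul_assoc, ← map_mul, ← hcp, Matrix.aeval_self_charpoly, zero_mul, Matrix.zero_mulVec]
  -- orthogonality with the root
  obtain ⟨ws, hws, hrefl⟩ := exists_refl6 E s
  have hwsS : ws ∈ S := ⟨hws, refl_stab6 E ht hs hws hrefl⟩
  obtain ⟨α, hα⟩ : ∃ α, α = rv6 s := ⟨_, rfl⟩
  have hnorm2 := norm6 E s
  rw [← hα] at hnorm2 hrefl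
  have hα0 : α ≠ 0 := by rintro rfl; simp at hnorm2
  have hperp : ∀ k : ℕ, α ⬝ᵥ (CE6 *ᵥ ((wm6 E u) ^ k *ᵥ w)) = 0 := by
    intro k
    have e1 : (wm6 E u) ^ k *ᵥ w = (aeval (wm6 E u) (X ^ k * cyclotomic 3 ℤ) * N) *ᵥ (Pi.single j 1) := by
      rw [hwd, map_mul, map_pow, aeval_X, Matrix.mulVec_mulVec, mul_assoc]
    have e2 := hrefl ((wm6 E u) ^ k *ᵥ w)
    have e3 : wm6 E ws *ᵥ ((wm6 E u) ^ k *ᵥ w) = (wm6 E u) ^ k *ᵥ w := by
      rw [e1, Matrix.mulVec_mulVec, hN1' _ _ hwsS]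
    rw [e3] at e2
    have e4 : (α ⬝ᵥ (CE6 *ᵥ ((wm6 E u) ^ k *ᵥ w))) • α = 0 := by
      have := sub_eq_self.1 e2.symm
      exact this
    rcases smul_eq_zero.1 e4 with e5 | e5
    · exact e5
    · exact absurd e5 hα0
  -- over the rationals
  have hperpq : ∀ C : ℚ[X], qv α ⬝ᵥ (qm CE6 *ᵥ ((aeval (qm (wm6 E u)) C) *ᵥ qv w)) = 0 := by
    intro C
    induction C using Polynomial.induction_on' with
    | add p q hp hq => rw [map_add, Matrix.add_mulVec, Matrix.mulVec_add, dotProduct_add, hp, hq, add_zero]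
    | monomial n c =>
      rw [aeval_monomial, Algebra.algebraMap_eq_smul_one, smul_mul_assoc, one_mul, Matrix.smul_mulVec, Matrix.mulVec_smul,
        dotProduct_smul, ← qm_pow, qm_mulVec, qm_mulVec, qv_dot, hperp n]
      simp
  have hperp12 : ∀ y : Fin 6 → ℤ, (aeval (wm6 E u) (cyclotomic 12 ℤ)) *ᵥ y = 0 → α ⬝ᵥ (CE6 *ᵥ y) = 0 := by
    intro y hy
    obtain ⟨C, hC⟩ := decomp6 hj hα'0 hw12 hα' (qv y)
    have i1 : Irreducible (cyclotomic 12 ℚ) := cyclotomic.irreducible_rat (by norm_num)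
    have i2 : Irreducible (cyclotomic 3 ℚ) := cyclotomic.irreducible_rat (by norm_num)
    have k12 : ∀ x : Fin 6 → ℤ, (aeval (wm6 E u) (cyclotomic 12 ℤ)) *ᵥ x = 0 → (aeval (qm (wm6 E u)) (cyclotomic 12 ℚ)) *ᵥ qv x = 0 := by
      intro x hx
      rw [← map_cyclotomic 12 (Int.castRingHom ℚ), ← qm_aeval, qm_mulVec, hx, qv_zero]
    have k3 : (aeval (qm (wm6 E u)) (cyclotomic 3 ℚ)) *ᵥ qv α' = 0 := by
      rw [← map_cyclotomic 3 (Int.castRingHom ℚ), ← qm_aeval, qm_mulVec, hα', qv_zero]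
    have e1 := k12 y hy
    rw [hC, Matrix.mulVec_add] at e1
    have hcomm : ∀ A B : ℚ[X], ∀ w : Fin 6 → ℚ, (aeval (qm (wm6 E u)) A) *ᵥ ((aeval (qm (wm6 E u)) B) *ᵥ w) =
        (aeval (qm (wm6 E u)) B) *ᵥ ((aeval (qm (wm6 E u)) A) *ᵥ w) := by
      intro A B w
      rw [Matrix.mulVec_mulVec, Matrix.mulVec_mulVec, ← map_mul, ← map_mul, mul_comm]
    rw [hcomm _ C (qv w), k12 w hw12, Matrix.mulVec_zero, zero_add, Matrix.mulVec_mulVec, ← map_mul] at e1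
    have hα'q : qv α' ≠ 0 := by
      intro h0; exact hα'0 (qv_inj (by rw [h0, qv_zero]))
    have e2 := dvd_of_kill i2 hα'q k3 e1
    have hcop : IsCoprime (cyclotomic 3 ℚ) (cyclotomic 12 ℚ) := cyclotomic.isCoprime_rat (by norm_num)
    obtain ⟨C', rfl⟩ := hcop.dvd_of_dvd_mul_left e2
    have e3 : (aeval (qm (wm6 E u)) (cyclotomic 3 ℚ * C')) *ᵥ qv α' = 0 := by
      rw [mul_comm, map_mul, ← Matrix.mulVec_mulVec, k3, Matrix.mulVec_zero]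
    rw [e3, add_zero] at hC
    have e4 := hperpq (cyclotomic 3 ℚ * C')
    rw [← hC, qm_mulVec, qv_dot] at e4
    exact_mod_cast e4
  -- the root lies in the plane
  obtain ⟨M, hM⟩ : ∃ M, M = wm6 E u := ⟨_, rfl⟩
  have hCM := wm6_C E hu
  have hMW := wm6_pow_W E hu
  rw [← hM] at hCM hMW hperp12
  have hinv := dot_inv hCM
  have hkey : ∀ y : Fin 6 → ℤ, ((M ^ 2 + M + 1) *ᵥ α) ⬝ᵥ (CE6 *ᵥ (M ^ 2 *ᵥ y)) = 0 := by
    intro y
    have e1 : (aeval M (cyclotomic 12 ℤ)) *ᵥ ((M ^ 2 + M + 1) *ᵥ y) = 0 := by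
      rw [← aeval3, Matrix.mulVec_mulVec, ← map_mul, hM, ← hcp, Matrix.aeval_self_charpoly, Matrix.zero_mulVec]
    have e2 := hperp12 _ e1
    have p1 : (M ^ 2 *ᵥ α) ⬝ᵥ (CE6 *ᵥ (M ^ 2 *ᵥ y)) = α ⬝ᵥ (CE6 *ᵥ y) := by
      rw [pow_two, ← Matrix.mulVec_mulVec, ← Matrix.mulVec_mulVec, hinv, hinv]
    have p2 : (M *ᵥ α) ⬝ᵥ (CE6 *ᵥ (M ^ 2 *ᵥ y)) = α ⬝ᵥ (CE6 *ᵥ (M *ᵥ y)) := by
      rw [pow_two, ← Matrix.mulVec_mulVec, hinv]
    rw [Matrix.add_mulVec, Matrix.add_mulVec, Matrix.one_mulVec, add_dotProduct, add_dotProduct, p1, p2]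
    rw [Matrix.add_mulVec, Matrix.add_mulVec, Matrix.one_mulVec, Matrix.mulVec_add, Matrix.mulVec_add, dotProduct_add,
      dotProduct_add] at e2
    linarith
  obtain ⟨N0, hN0⟩ : ∃ N0, N0 = Nat.card E.rp.wsys.W := ⟨_, rfl⟩
  have hN0p : 0 < N0 := by rw [hN0]; exact Nat.card_pos
  rw [← hN0] at hMW
  have h9 : (M ^ 2 + M + 1) *ᵥ α = 0 := by
    by_contra hne
    have e1 := CE6_pos _ hne
    have e2 := hkey (M ^ (2 * N0 - 2) *ᵥ ((M ^ 2 + M + 1) *ᵥ α))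
    have e3 : ∀ x : Fin 6 → ℤ, M ^ 2 *ᵥ (M ^ (2 * N0 - 2) *ᵥ x) = x := by
      intro x
      rw [Matrix.mulVec_mulVec, ← pow_add, show 2 + (2 * N0 - 2) = N0 * 2 by omega, pow_mul, hMW, one_pow,
        Matrix.one_mulVec]
    rw [e3] at e2
    omega
  refine no_root6 hCM (by rw [hM]; exact hcp) hv (by rw [hM]; exact hv12) hnorm2 (by rw [aeval3]; exact h9)

/-- two elements with trivial common stabilizer -/
theorem stab6 {t t' : GL chevE6.Idx K} (ht : t ∈ chevE6.diagonalSubgroup K) (ht1 : t ≠ 1)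
    (ht' : t' ∈ chevE6.diagonalSubgroup K) (ht1' : t' ≠ 1) {r r' : ℕ} [hr : Fact r.Prime] [hr' : Fact r'.Prime] {z z' : K}
    (hz : IsPrimitiveRoot z r) (hz' : IsPrimitiveRoot z' r') {a a' : Fin chevE6.rank → ℤ}
    (ha : ∀ i, ev t (E.rp.wsys.p i) = z ^ a i) (ha' : ∀ i, ev t' (E.rp.wsys.p i) = z' ^ a' i) {q : ℕ}
    (hq : ∀ x y : K, x ^ q = y ^ q → x = y) (h : ∀ s, ev t (u s) = ev t s ^ q) (h' : ∀ s, ev t' (u s) = ev t' s ^ q)
    (hW : ¬ r ∣ Nat.card E.rp.wsys.W) (hW' : ¬ r' ∣ Nat.card E.rp.wsys.W)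
    (hR : ((cyclotomic 3 ℤ).map (Int.castRingHom (ZMod r))).eval (q : ZMod r) ≠ 0)
    (hR' : ((cyclotomic 12 ℤ).map (Int.castRingHom (ZMod r'))).eval (q : ZMod r') ≠ 0) :
    ∀ v ∈ E.rp.wsys.W, (∀ s, ev t (v s) = ev t s) → (∀ s, ev t' (v s) = ev t' s) → v = 1 := by
  have G := good_of_mem hE6
  have hcp := cp6 E hu hv hv12
  let S : Subgroup (Equiv.Perm (Fin chevE6.nroots)) :=
    { carrier := {v | v ∈ E.rp.wsys.W ∧ (∀ s, ev t (v s) = ev t s) ∧ ∀ s, ev t' (v s) = ev t' s}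
      mul_mem' := fun {v w} hv hw => ⟨mul_mem hv.1 hw.1, fun s => by rw [Equiv.Perm.mul_apply, hv.2.1, hw.2.1],
        fun s => by rw [Equiv.Perm.mul_apply, hv.2.2, hw.2.2]⟩
      one_mem' := ⟨one_mem _, fun s => rfl, fun s => rfl⟩
      inv_mem' := fun {v} hv => ⟨inv_mem hv.1, fun s => by
        have := hv.2.1 (v⁻¹ s)
        have e : v (v⁻¹ s) = s := v.apply_symm_apply s
        rw [e] at this
        exact this.symm, fun s => by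
        have := hv.2.2 (v⁻¹ s)
        have e : v (v⁻¹ s) = s := v.apply_symm_apply s
        rw [e] at this
        exact this.symm⟩ }
  have hSW : S ≤ E.rp.wsys.W := fun v hv => hv.1
  have hnorm : ∀ v ∈ S, u⁻¹ * v * u ∈ S := by
    intro v hv
    refine ⟨mul_mem (mul_mem (inv_mem hu) hv.1) hu, fun s => ?_, fun s => ?_⟩
    · apply hq
      rw [← h, ← h]
      have : u ((u⁻¹ * v * u) s) = v (u s) := by simp [Equiv.Perm.mul_apply]
      rw [this, hv.2.1]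
    · apply hq
      rw [← h', ← h']
      have : u ((u⁻¹ * v * u) s) = v (u s) := by simp [Equiv.Perm.mul_apply]
      rw [this, hv.2.2]
  obtain ⟨N, hN1', hN2⟩ := exists_Nm6 (K := K) E hSW hu hnorm
  have hex : ∀ R : ℤ[X], aeval (wm6 E u) R * N ≠ 0 → ∃ j, (aeval (wm6 E u) R * N) *ᵥ (Pi.single j 1) ≠ 0 := by
    intro R h0
    by_contra hcon
    push Not at hcon
    apply h0
    ext i j
    have := congrFun (hcon j) i
    rw [Matrix.mulVec_single_one] at this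
    exact this
  obtain ⟨j, hj⟩ := hex (cyclotomic 3 ℤ) (hN2 t r z a q hz ht ht1 ha h (fun v hv => hv.2.1) hW _ hR)
  obtain ⟨j', hj'⟩ := hex (cyclotomic 12 ℤ) (hN2 t' r' z' a' q hz' ht' ht1' ha' h' (fun v hv => hv.2.2) hW' _ hR')
  obtain ⟨w, hwd⟩ : ∃ w, w = (aeval (wm6 E u) (cyclotomic 3 ℤ) * N) *ᵥ (Pi.single j 1) := ⟨_, rfl⟩
  obtain ⟨α, hαd⟩ : ∃ α, α = (aeval (wm6 E u) (cyclotomic 12 ℤ) * N) *ᵥ (Pi.single j' 1) := ⟨_, rfl⟩
  rw [← hwd] at hj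
  rw [← hαd] at hj'
  have hw12 : (aeval (wm6 E u) (cyclotomic 12 ℤ)) *ᵥ w = 0 := by
    rw [hwd, Matrix.mulVec_mulVec, ← mul_assoc, ← map_mul, ← hcp, Matrix.aeval_self_charpoly, zero_mul, Matrix.zero_mulVec]
  have hα3 : (aeval (wm6 E u) (cyclotomic 3 ℤ)) *ᵥ α = 0 := by
    rw [hαd, Matrix.mulVec_mulVec, ← mul_assoc, ← map_mul, mul_comm (cyclotomic 3 ℤ), ← hcp, Matrix.aeval_self_charpoly,
      zero_mul, Matrix.zero_mulVec]
  intro x hx hx1 hx2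
  have hxS : x ∈ S := ⟨hx, hx1, hx2⟩
  have f1 : ∀ k : ℕ, wm6 E x *ᵥ ((wm6 E u) ^ k *ᵥ w) = (wm6 E u) ^ k *ᵥ w := by
    intro k
    have e1 : (wm6 E u) ^ k *ᵥ w = (aeval (wm6 E u) (X ^ k * cyclotomic 3 ℤ) * N) *ᵥ (Pi.single j 1) := by
      rw [hwd, map_mul, map_pow, aeval_X, Matrix.mulVec_mulVec, mul_assoc]
    rw [e1, Matrix.mulVec_mulVec, hN1' _ _ hxS]
  have f2 : ∀ k : ℕ, wm6 E x *ᵥ ((wm6 E u) ^ k *ᵥ α) = (wm6 E u) ^ k *ᵥ α := by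
    intro k
    have e1 : (wm6 E u) ^ k *ᵥ α = (aeval (wm6 E u) (X ^ k * cyclotomic 12 ℤ) * N) *ᵥ (Pi.single j' 1) := by
      rw [hαd, map_mul, map_pow, aeval_X, Matrix.mulVec_mulVec, mul_assoc]
    rw [e1, Matrix.mulVec_mulVec, hN1' _ _ hxS]
  have hone : wm6 E x = 1 := by
    apply qm_ext
    intro y
    obtain ⟨C, hC⟩ := decomp6 hj hj' hw12 hα3 y
    rw [hC, Matrix.mulVec_add, fix_poly f1, fix_poly f2, qm_one, Matrix.one_mulVec]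
  apply wm_inj E G hx (one_mem _)
  exact hone.trans (wm6_one E).symm

end struct

end Cfsg.Agent.ChevF
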