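import Cfsg.Agent.ChevF.Tor1
import Cfsg.Agent.ChevU.Syl
import Cfsg.Agent.ChevGrp.Orders

set_option autoImplicit false

/-!
Subgroups of order prime to the Weyl group are conjugate into the diagonal subgroup over an extension field (helper19).
-/

namespace Cfsg.Agent.ChevF

open Cfsg.Lie Cfsg.Agent.Chev Cfsg.Agent.ChevGrp Matrix

variable {D : ChevalleyDatum} (E : DData D)

section

variable {K : Type*} [Field K] [Fintype K]

/-- the index of the diagonal subgroup is prime to `r` -/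
theorem not_dvd_index_diag (hD : D ∈ data) {r : ℕ} [hr : Fact r.Prime] (hr1 : r ∣ Fintype.card K - 1)
    (hW : ¬ r ∣ Nat.card E.rp.wsys.W) : ¬ r ∣ ((D.diagonalSubgroup K).subgroupOf (D.group K)).index := by
  classical
  have G := good_of_mem hD
  haveI : Finite (GL D.Idx K) := inferInstance
  haveI : Fintype E.rp.wsys.W := Fintype.ofFinite _
  set Q := Fintype.card K with hQ
  have hQ0 : 0 < Q := Fintype.card_pos
  have h1 : Nat.card (D.group K) = Nat.card (D.borelSubgroup K) *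
      ∑ u : E.rp.wsys.W, Q ^ E.rp.wsys.N (u : Equiv.Perm (Fin D.nroots)) := by
    have h := (chev E G K).card_Grp
    rw [chev_Grp, chev_B, finsum_eq_sum_of_fintype] at h
    rw [h]
    congr 1
    refine Finset.sum_congr rfl fun u _ => ?_
    refine (chev E G K).card_Um (fun j => ?_) u.2
    rw [chev_X, card_rootSubgroup G (E.rp.wsys.p j).2, Nat.card_eq_fintype_card]
  have h2 := card_borel (F := K) E G
  have h3 : Nat.card (D.posUnipotent K) = Q ^ (D.nroots / 2) :=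
    ChevU.card_posUnipotent (ChevU.rootFacts hD).tab (ChevU.elemFacts hD K)
  have h4 := Subgroup.card_mul_index ((D.diagonalSubgroup K).subgroupOf (D.group K))
  have h5 : Nat.card ((D.diagonalSubgroup K).subgroupOf (D.group K)) = Nat.card (D.diagonalSubgroup K) :=
    Nat.card_congr (Subgroup.subgroupOfEquivOfLe (H_le_group E G)).toEquiv
  rw [h5, h1, h2, h3] at h4
  have hpos : 0 < Nat.card (D.diagonalSubgroup K) := Nat.card_pos
  have h6 : ((D.diagonalSubgroup K).subgroupOf (D.group K)).index = Q ^ (D.nroots / 2) *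
      ∑ u : E.rp.wsys.W, Q ^ E.rp.wsys.N (u : Equiv.Perm (Fin D.nroots)) := by
    apply Nat.eq_of_mul_eq_mul_left hpos
    rw [h4]; ring
  rw [h6]
  have hQr : (Q : ZMod r) = 1 := by
    have : ((Q - 1 : ℕ) : ZMod r) = 0 := (ZMod.natCast_eq_zero_iff _ _).2 hr1
    rw [Nat.cast_sub hQ0, Nat.cast_one, sub_eq_zero] at this
    exact this
  rw [← ZMod.natCast_eq_zero_iff]
  push_cast
  rw [hQr]
  simp only [one_pow, one_mul, Finset.sum_const, Finset.card_univ, nsmul_eq_mul, mul_one]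
  rw [ZMod.natCast_eq_zero_iff, ← Nat.card_eq_fintype_card]
  exact hW

/-- every `r`-subgroup is conjugate into the diagonal subgroup -/
theorem exists_conj_diag (hD : D ∈ data) {r : ℕ} [hr : Fact r.Prime] (hr1 : r ∣ Fintype.card K - 1)
    (hW : ¬ r ∣ Nat.card E.rp.wsys.W) {V : Subgroup (GL D.Idx K)} (hV : V ≤ D.group K) (hVp : IsPGroup r ↥V) :
    ∃ g ∈ D.group K, ∀ v ∈ V, g⁻¹ * v * g ∈ D.diagonalSubgroup K := by
  haveI : Finite (GL D.Idx K) := inferInstance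
  set B' := (D.diagonalSubgroup K).subgroupOf (D.group K) with hB'
  set V' := V.subgroupOf (D.group K) with hV'
  have hVp' : IsPGroup r ↥V' := by
    intro x
    obtain ⟨k, hk⟩ := hVp ⟨((x : ↥(D.group K)) : GL D.Idx K), x.2⟩
    refine ⟨k, ?_⟩
    apply Subtype.ext
    apply Subtype.ext
    have := congrArg (fun y : ↥V => (y : GL D.Idx K)) hk
    simpa using this
  obtain ⟨x, hx⟩ := hVp'.nonempty_fixed_point_of_prime_not_dvd_card (α := ↥(D.group K) ⧸ B') (not_dvd_index_diag E hD hr1 hW)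
  induction x using QuotientGroup.induction_on with
  | H g =>
    refine ⟨g, g.2, fun v hv => ?_⟩
    have h1 := hx ⟨⟨v, hV hv⟩, hv⟩
    have h2 : ((⟨v, hV hv⟩ * g : ↥(D.group K)) : ↥(D.group K) ⧸ B') = (g : ↥(D.group K) ⧸ B') := h1
    rw [eq_comm, QuotientGroup.eq, Subgroup.mem_subgroupOf] at h2
    have : (g : GL D.Idx K)⁻¹ * v * (g : GL D.Idx K) = ((g⁻¹ * (⟨v, hV hv⟩ * g) : ↥(D.group K)) : GL D.Idx K) := by
      simp [mul_assoc]
    rw [this]; exact h2

end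

section

variable {F K : Type*} [Field F] [Field K] [Fintype K]

/-- an `r`-subgroup over the small field inside a maximal torus -/
theorem exists_frame (hD : D ∈ data) {r : ℕ} [hr : Fact r.Prime] (hr1 : r ∣ Fintype.card K - 1)
    (hW : ¬ r ∣ Nat.card E.rp.wsys.W) (ι : F →+* K) {σ : K →+* K} {q : ℕ} (hσ : ∀ t, σ t = t ^ q)
    (hι : ∀ t, σ (ι t) = ι t) {P : Subgroup (GL D.Idx F)} (hP : P ≤ D.group F) (hPr : IsPGroup r ↥P) :
    ∃ g ∈ D.group K, (∀ y ∈ P, g⁻¹ * glMap D.Idx ι y * g ∈ D.diagonalSubgroup K) ∧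
      ∃ b ∈ D.posUnipotent K, ∃ n ∈ (chev E (good_of_mem hD) K).N, ∃ x ∈ D.posUnipotent K,
        g⁻¹ * glMap D.Idx σ g = b * n * x ∧ ∃ u ∈ E.rp.wsys.W, (chev E (good_of_mem hD) K).Act n u ∧
      ∀ y ∈ P, (∀ s, ev (g⁻¹ * glMap D.Idx ι y * g) (u s) = ev (g⁻¹ * glMap D.Idx ι y * g) s ^ q) ∧
        x * (g⁻¹ * glMap D.Idx ι y * g) ^ q = (g⁻¹ * glMap D.Idx ι y * g) ^ q * x ∧
        b * (g⁻¹ * glMap D.Idx ι y * g) = (g⁻¹ * glMap D.Idx ι y * g) * b := by
  obtain ⟨g, hg, h1⟩ := exists_conj_diag E hD hr1 hW (V := P.map (glMap D.Idx ι)) (by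
      rintro _ ⟨y, hy, rfl⟩
      exact glMap_mem ι (hP hy)) (hPr.map _)
  have h2 : ∀ y ∈ P, g⁻¹ * glMap D.Idx ι y * g ∈ D.diagonalSubgroup K := fun y hy => h1 _ ⟨y, hy, rfl⟩
  have hc : g⁻¹ * glMap D.Idx σ g ∈ D.group K := mul_mem (inv_mem hg) (glMap_mem σ hg)
  obtain ⟨b, hb, n, hn, x, hx, e, h3⟩ := fusion E hD hc
  obtain ⟨u, hu⟩ := RGrp.exists_act hn
  refine ⟨g, hg, h2, b, hb, n, hn, x, hx, e, u, hu.mem, hu, fun y hy => ?_⟩
  set t := g⁻¹ * glMap D.Idx ι y * g with ht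
  have ht1 : t ∈ D.diagonalSubgroup K := h2 y hy
  have hfix : glMap D.Idx σ (glMap D.Idx ι y) = glMap D.Idx ι y := by
    apply Units.ext
    rw [glMap_coe, glMap_coe]
    ext i j
    simp [hι]
  have h4 : (g⁻¹ * glMap D.Idx σ g) * t ^ q * (g⁻¹ * glMap D.Idx σ g)⁻¹ = t := by
    rw [← glMap_frob hD hσ ht1, ht]
    simp only [map_mul, map_inv, hfix]
    group
  obtain ⟨h5, h6, h7⟩ := h3 (t ^ q) (pow_mem ht1 q) (by rw [h4]; exact ht1)
  rw [h4] at h5
  rw [h5] at h7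
  refine ⟨fun s => ?_, h6, h7⟩
  have h8 := N_conj_ev E hD hn hu (pow_mem ht1 q) s
  rw [h5, ev_pow hD ht1] at h8
  exact h8

end

end Cfsg.Agent.ChevF
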