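import Cfsg.Agent.ChevF.TorMain
import Cfsg.Agent.Mult.Emb

set_option autoImplicit false

/-!
Maximal tori in the Steinberg groups and their images in the Chevalley groups (helper19).
-/

namespace Cfsg.Agent.ChevF

open Cfsg.Lie Cfsg.Agent.Chev Cfsg.Agent.ChevGrp Cfsg.Agent.Steinb Matrix

variable {D : ChevalleyDatum} {F K L : Type*} [Field F] [Field K] [Field L]

lemma commWord_ring (σ : F →+* K) (r s : ℕ) (t u : F) :
    D.commWord K r s (σ t) (σ u) = (D.commWord F r s t u).map fun p => (p.1, σ p.2) := by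
  unfold ChevalleyDatum.commWord
  rw [List.map_map]
  refine List.map_congr_left fun c _ => ?_
  simp

theorem exists_stMap (H : Good D) (σ : F →+* K) : ∃ φ : D.SteinbergGroup F →* D.SteinbergGroup K,
    ∀ r < D.nroots, ∀ t, φ (D.stGen F r t) = (stOf H K).x r (σ t) := by
  apply Mult.exists_hom_raw H (fun r t => (stOf H K).x r (σ t))
  · intro r hr t u
    rw [(stOf H K).add hr, map_add]
  · intro r hr s hs h1 h2 t u
    rw [(stOf H K).comm hr hs h1 h2, commWord_ring, List.map_map]; rfl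
  · intro r hr t u ht hu
    have h5 := (stOf H K).r3 hr (t := σ t) (u := σ u) (by simpa using ht) (by simpa using hu)
    simp only [PreSt.hr, PreSt.nr] at h5
    simp only [map_neg, map_inv₀, map_one, map_mul]
    exact h5

/-- functoriality of Steinberg groups -/
noncomputable def stMap (H : Good D) (σ : F →+* K) : D.SteinbergGroup F →* D.SteinbergGroup K := (exists_stMap H σ).choose

lemma stMap_x (H : Good D) (σ : F →+* K) {r : ℕ} (hr : r < D.nroots) (t : F) :
    stMap H σ ((stOf H F).x r t) = (stOf H K).x r (σ t) := (exists_stMap H σ).choose_spec r hr t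

lemma st_ext (H : Good D) {Γ : Type*} [Group Γ] {f g : D.SteinbergGroup F →* Γ}
    (h : ∀ r < D.nroots, ∀ t, f ((stOf H F).x r t) = g ((stOf H F).x r t)) : f = g := by
  have h1 : (stOf H F).toPreSt.gen (fun _ => True) ≤ f.eqLocus g := by
    rw [PreSt.gen_le]
    intro r hr _ t
    exact h r hr t
  have h2 : (stOf H F).toPreSt.gen (fun _ => True) = ⊤ := stOf_gen H
  rw [h2] at h1
  exact MonoidHom.ext fun x => h1 (Subgroup.mem_top x)

lemma θ_stMap (H : Good D) (σ : F →+* K) (g : D.SteinbergGroup F) :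
    (stOf H K).θ (stMap H σ g) = glMap D.Idx σ ((stOf H F).θ g) := by
  have h : ((stOf H K).θ).comp (stMap H σ) = (glMap D.Idx σ).comp (stOf H F).θ := by
    apply st_ext H
    intro r hr t
    rw [MonoidHom.comp_apply, MonoidHom.comp_apply, stMap_x H σ hr, (stOf H K).θ_x hr, (stOf H F).θ_x hr, glMap_xU]
  exact DFunLike.congr_fun h g

lemma stMap_nr (H : Good D) (σ : F →+* K) {r : ℕ} (hr : r < D.nroots) (t : F) :
    stMap H σ ((stOf H F).nr r t) = (stOf H K).nr r (σ t) := by
  unfold PreSt.nr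
  rw [map_mul, map_mul, stMap_x H σ hr, stMap_x H σ (neg_lt H.toGood1 hr), map_neg, map_inv₀]

lemma stMap_hHom (H : Good D) (σ : F →+* K) (i : Fin D.rank) (c : Fˣ) :
    stMap H σ ((stOf H F).hHom i c) = (stOf H K).hHom i (Units.map (σ : F →* K) c) := by
  have hp := H.simple_lt i i.2
  rw [StSt.hHom_apply, StSt.hHom_apply, PreSt.hr, PreSt.hr, map_mul, stMap_nr H σ hp, stMap_nr H σ hp, map_neg, map_one]
  rfl

lemma stMap_tor (H : Good D) (S : SP D) (σ : F →+* K) (c : Fin D.rank → Fˣ) :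
    stMap H σ ((stOf H F).tor S c) = (stOf H K).tor S (fun i => Units.map (σ : F →* K) (c i)) := by
  let m : (Fin D.rank → Fˣ) →* (Fin D.rank → Kˣ) :=
    { toFun := fun c i => Units.map (σ : F →* K) (c i)
      map_one' := by funext i; simp
      map_mul' := fun c d => by funext i; simp }
  have h : c ∈ ((stMap H σ).comp ((stOf H F).tor S)).eqLocus (((stOf H K).tor S).comp m) := by
    apply Subgroup.pi_mem_of_mulSingle_mem
    intro i
    show stMap H σ ((stOf H F).tor S (Pi.mulSingle i (c i))) = (stOf H K).tor S (m (Pi.mulSingle i (c i)))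
    have e : m (Pi.mulSingle i (c i)) = Pi.mulSingle i (Units.map (σ : F →* K) (c i)) := by
      funext j
      by_cases hj : j = i
      · subst hj
        show Units.map (σ : F →* K) ((Pi.mulSingle j (c j) : Fin D.rank → Fˣ) j) = _
        rw [Pi.mulSingle_eq_same, Pi.mulSingle_eq_same]
      · show Units.map (σ : F →* K) ((Pi.mulSingle i (c i) : Fin D.rank → Fˣ) j) = _
        rw [Pi.mulSingle_eq_of_ne hj, Pi.mulSingle_eq_of_ne hj, map_one]
    rw [e, StSt.tor_single, StSt.tor_single, stMap_hHom]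
  exact h

/-! ### the action of `N` on the torus -/

/-- symmetry of the Cartan matrix -/
def SymC (D : ChevalleyDatum) : Prop := ∀ i j : Fin D.rank, D.cartan i (D.simple j) = D.cartan j (D.simple i)

variable (E : DData D)

lemma nn_tor (H : Good D) (S : SP D) (hsym : SymC D) (i : Fin D.rank) (c : Fin D.rank → Fˣ) :
    (stOf H F).nr (D.simple i) 1 * (stOf H F).tor S c * ((stOf H F).nr (D.simple i) 1)⁻¹ =
      (stOf H F).tor S (ChevU.mon (A := Fˣ) (Rm D i)ᵀ c) := by
  have hp := H.simple_lt i i.2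
  have h1 := ((stOf H F).tor_tact S c).conj_nr hp 1
  rw [mul_one, StSt.chr_simple _ H i.2] at h1
  have h2 : (stOf H F).nr (D.simple i) 1 * (stOf H F).tor S c * ((stOf H F).nr (D.simple i) 1)⁻¹ =
      ((stOf H F).hHom i (StSt.torChi D c i))⁻¹ * (stOf H F).tor S c := by
    rw [StSt.hHom_apply, PreSt.hr, ← h1, (stOf H F).nr_neg hp]; group
  rw [h2, ← StSt.tor_single _ S, ← map_inv, ← map_mul]
  congr 1
  funext k
  rw [ChevU.mon_apply, Pi.mul_apply, Pi.inv_apply]
  by_cases hk : k = i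
  · subst hk
    rw [Pi.mulSingle_eq_same]
    have h3 : ∀ j, c j ^ (Rm D k)ᵀ j k = c j ^ ((1 : Matrix (Fin D.rank) (Fin D.rank) ℤ) k j) * (c j ^ D.cartan j (D.simple k))⁻¹ := by
      intro j
      rw [← _root_.zpow_neg, ← _root_.zpow_add, Matrix.transpose_apply, Rm, Matrix.sub_apply, Matrix.of_apply, if_pos rfl,
        hsym k j, sub_eq_add_neg]
    rw [Finset.prod_congr rfl (fun j _ => h3 j), Finset.prod_mul_distrib, Finset.prod_inv_distrib, Finset.prod_eq_single k]
    · rw [Matrix.one_apply_eq, _root_.zpow_one, mul_comm]; rfl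
    · intro j _ hj
      rw [Matrix.one_apply_ne (Ne.symm hj), _root_.zpow_zero]
    · intro h; exact absurd (Finset.mem_univ k) h
  · rw [Pi.mulSingle_eq_of_ne hk, inv_one, one_mul, Finset.prod_eq_single k]
    · rw [Matrix.transpose_apply, Rm, Matrix.sub_apply, Matrix.of_apply, if_neg hk, Matrix.one_apply_eq, sub_zero,
        _root_.zpow_one]
    · intro j _ hj
      rw [Matrix.transpose_apply, Rm, Matrix.sub_apply, Matrix.of_apply, if_neg hk, Matrix.one_apply_ne (Ne.symm hj),
        sub_zero, _root_.zpow_zero]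
    · intro h; exact absurd (Finset.mem_univ k) h

/-- the system of root subgroups of the Steinberg group -/
noncomputable abbrev stR (H : Good D) (S : SP D) (K : Type*) [Field K] : RGrp E.rp.wsys (D.SteinbergGroup K) :=
  (stOf H K).toPreSt.rgrp S E

lemma nd_tor (H : Good D) (S : SP D) (hsym : SymC D) (l : List (Fin D.rank)) (c : Fin D.rank → Fˣ) :
    (stR E H S F).nd l * (stOf H F).tor S c * ((stR E H S F).nd l)⁻¹ =
      (stOf H F).tor S (ChevU.mon (A := Fˣ) (wm E (E.rp.wsys.wd l))ᵀ c) := by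
  induction l with
  | nil =>
    rw [RGrp.nd_nil, WSys.wd_nil, wm_one E H, Matrix.transpose_one, ChevU.mon_one]; group
  | cons i l ih =>
    rw [RGrp.nd_cons, WSys.wd_cons, wm_w_mul E H, Matrix.transpose_mul, ← ChevU.mon_mon, ← nn_tor H S hsym, ← ih]
    have e : (stR E H S F).nn i = (stOf H F).nr (D.simple i) 1 := rfl
    rw [e]
    group

/-- every torus element commutes with the torus -/
lemma T_comm (H : Good D) (S : SP D) {k k' : D.SteinbergGroup F} (hk : k ∈ (stOf H F).T) (hk' : k' ∈ (stOf H F).T) :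
    k * k' = k' * k := by
  rw [← (stOf H F).tor_range S] at hk hk'
  obtain ⟨c, rfl⟩ := hk
  obtain ⟨d, rfl⟩ := hk'
  rw [← map_mul, ← map_mul, mul_comm]

/-- the action of `N` -/
lemma N_tor (H : Good D) (S : SP D) (hsym : SymC D) {n : D.SteinbergGroup F} (hn : n ∈ (stR E H S F).N)
    {u : Equiv.Perm (Fin D.nroots)} (hu : (stR E H S F).Act n u) (c : Fin D.rank → Fˣ) :
    n * (stOf H F).tor S c * n⁻¹ = (stOf H F).tor S (ChevU.mon (A := Fˣ) (wm E u)ᵀ c) := by
  obtain ⟨l, k, hk, rfl⟩ := RGrp.exists_nd hn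
  have h1 : u = E.rp.wsys.wd l := by
    have := ((RGrp.act_nd (R := stR E H S F) l).mul (RGrp.act_H hk)).unique hu
    rw [mul_one] at this; exact this.symm
  rw [h1, ← nd_tor E H S hsym]
  have h2 : (stOf H F).tor S c ∈ (stOf H F).T := by rw [← (stOf H F).tor_range S]; exact ⟨c, rfl⟩
  have h3 := T_comm H S hk h2
  calc (stR E H S F).nd l * k * (stOf H F).tor S c * ((stR E H S F).nd l * k)⁻¹
      = (stR E H S F).nd l * (k * (stOf H F).tor S c) * k⁻¹ * ((stR E H S F).nd l)⁻¹ := by group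
    _ = _ := by rw [h3]; group

lemma θ_tor (H : Good D) (S : SP D) (c : Fin D.rank → Fˣ) :
    (stOf H F).θ ((stOf H F).tor S c) = ChevU.torHom D F (StSt.torChi D c) := by
  apply Units.ext
  rw [((stOf H F).tor_tact S c).im, ChevU.coe_torHom]

lemma diag_eq_tor (hD : D ∈ data) (S : SP D) {h : GL D.Idx F} (hh : h ∈ D.diagonalSubgroup F) :
    ∃ c, h = (stOf (good_of_mem hD) F).θ ((stOf (good_of_mem hD) F).tor S c) := by
  rw [ChevU.diag_eq_range (ChevU.rootFacts hD) (good_of_mem hD)] at hh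
  obtain ⟨c, rfl⟩ := hh
  refine ⟨c, ?_⟩
  rw [θ_tor]
  unfold ChevU.hHom
  rw [MonoidHom.comp_apply, MonoidHom.comp_apply]
  apply ChevU.torHom_congr
  intro j hj
  rw [ChevU.extHom_apply hj, ChevU.mon_apply]
  rfl

lemma tor_mem_diag (hD : D ∈ data) (S : SP D) (c : Fin D.rank → Fˣ) :
    (stOf (good_of_mem hD) F).θ ((stOf (good_of_mem hD) F).tor S c) ∈ D.diagonalSubgroup F := by
  rw [ChevU.diag_eq_range (ChevU.rootFacts hD) (good_of_mem hD), θ_tor]
  refine ⟨c, ?_⟩
  unfold ChevU.hHom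
  rw [MonoidHom.comp_apply, MonoidHom.comp_apply]
  apply ChevU.torHom_congr
  intro j hj
  rw [ChevU.extHom_apply hj, ChevU.mon_apply]
  rfl

/-- lifting of elements of `N` -/
lemma lift_N (hD : D ∈ data) (S : SP D) {g : D.SteinbergGroup F}
    (hn : (stOf (good_of_mem hD) F).θ g ∈ (chev E (good_of_mem hD) F).N) {u : Equiv.Perm (Fin D.nroots)}
    (hu : (chev E (good_of_mem hD) F).Act ((stOf (good_of_mem hD) F).θ g) u) :
    g ∈ (stR E (good_of_mem hD) S F).N ∧ (stR E (good_of_mem hD) S F).Act g u := by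
  set H := good_of_mem hD with hH
  obtain ⟨l, h, hh, e⟩ := RGrp.exists_nd hn
  have h1 : u = E.rp.wsys.wd l := by
    rw [e] at hu
    have := ((RGrp.act_nd (R := chev E H F) l).mul (RGrp.act_H hh)).unique hu
    rw [mul_one] at this; exact this.symm
  -- lift of `h`
  have hh' : h ∈ D.diagonalSubgroup F := hh
  have hT : ∃ k ∈ (stOf H F).T, (stOf H F).θ k = h := by
    have hr : h ∈ (stOf H F).θ.range := by
      rw [(stOf H F).range_θ (stOf_gen H)]
      exact H_le_group E H hh'
    obtain ⟨k, rfl⟩ := hr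
    refine ⟨k, ?_, rfl⟩
    obtain ⟨c, hc⟩ := diag_eq_tor hD S hh'
    obtain ⟨k', hk', e'⟩ : ∃ k' ∈ (stOf H F).T, (stOf H F).θ k' = (stOf H F).θ k :=
      ⟨(stOf H F).tor S c, by rw [← (stOf H F).tor_range S]; exact ⟨c, rfl⟩, hc.symm⟩
    have h3 : (stOf H F).θ (k * k'⁻¹) = 1 := by rw [map_mul, map_inv, e', mul_inv_cancel]
    have h4 := PreSt.mem_T_of_ker S E (stOf_gen H) h3
    have : k = (k * k'⁻¹) * k' := by group
    rw [this]; exact mul_mem h4 hk'
  obtain ⟨k, hk, rfl⟩ := hT
  have hθnd : ∀ l, (stOf H F).θ ((stR E H S F).nd l) = (chev E H F).nd l := by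
    intro l
    induction l with
    | nil => simp
    | cons i l ih =>
      rw [RGrp.nd_cons, RGrp.nd_cons, map_mul, ih]
      congr 1
      apply Units.ext
      exact (stOf H F).θ_nr (H.simple_lt i i.2) 1
  have h5 : (stOf H F).θ (((stR E H S F).nd l * k)⁻¹ * g) = 1 := by
    rw [map_mul, map_inv, map_mul, hθnd, e, inv_mul_cancel]
  have h6 := PreSt.mem_T_of_ker S E (stOf_gen H) h5
  have h7 : g = (stR E H S F).nd l * (k * (((stR E H S F).nd l * k)⁻¹ * g)) := by group
  have h8 : k * (((stR E H S F).nd l * k)⁻¹ * g) ∈ (stR E H S F).H := mul_mem hk h6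
  constructor
  · rw [h7]
    exact mul_mem (RGrp.nd_mem_N l) (RGrp.H_le_N _ h8)
  · rw [h7, h1]
    have := (RGrp.act_nd (R := stR E H S F) l).mul (RGrp.act_H h8)
    rwa [mul_one] at this

end Cfsg.Agent.ChevF
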