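import Cfsg.Agent.ChevF.ScTor

set_option autoImplicit false

/-!
Maximal tori in the Steinberg groups and their images in the Chevalley groups, main statements (helper19).
-/

namespace Cfsg.Agent.ChevF

open Cfsg.Lie Cfsg.Agent.Chev Cfsg.Agent.ChevGrp Cfsg.Agent.Steinb Matrix

variable {D : ChevalleyDatum} {F K : Type*} [Field F] [Field K] (E : DData D)

lemma θ_nd (H : Good D) (S : SP D) (l : List (Fin D.rank)) :
    (stOf H F).θ ((stR E H S F).nd l) = (chev E H F).nd l := by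
  induction l with
  | nil => simp
  | cons i l ih =>
    rw [RGrp.nd_cons, RGrp.nd_cons, map_mul, ih]
    congr 1
    apply Units.ext
    exact (stOf H F).θ_nr (H.simple_lt i i.2) 1

lemma θ_U (H : Good D) (S : SP D) {v : D.SteinbergGroup F} (hv : v ∈ (stR E H S F).U) :
    (stOf H F).θ v ∈ D.posUnipotent F := by
  rw [← chev_U E H]
  have h1 : (stR E H S F).U ≤ ((chev E H F).U).comap (stOf H F).θ := by
    unfold RGrp.U
    rw [ChevGrp.gen_le]
    rintro r hr _ ⟨t, rfl⟩
    rw [Subgroup.mem_comap, (stOf H F).θ_x r.2]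
    refine ChevGrp.mem_gen hr ?_
    rw [chev_X]
    exact Inst.xU_mem _ _ _
  exact h1 hv

include E in
/-- the fixed points of the Frobenius map on the Steinberg group -/
theorem fixed_st (hD : D ∈ data) (S : SP D) (hinj : Function.Injective ((stOf (good_of_mem hD) K).tor S)) (ι : F →+* K)
    (σ : K →+* K) (hfix : ∀ t, σ t = t → ∃ t₀, ι t₀ = t) {g : D.SteinbergGroup K}
    (hg : stMap (good_of_mem hD) σ g = g) : ∃ y ∈ D.group F, glMap D.Idx ι y = (stOf (good_of_mem hD) K).θ g := by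
  set H := good_of_mem hD with hH
  obtain ⟨v, hv, h1, h, hh, h2, L, x, hx, h3, e⟩ := (stR E H S K).fixed_form (stMap H σ) (fun i => by
      show stMap H σ ((stOf H K).nr (D.simple i) 1) = (stOf H K).nr (D.simple i) 1
      rw [stMap_nr H σ (H.simple_lt i i.2), map_one]) (by
      rintro s _ ⟨t, rfl⟩
      rw [stMap_x H σ s.2]
      exact ⟨σ t, rfl⟩) (by
      intro h hh
      have hh' : h ∈ (stOf H K).T := hh
      rw [← (stOf H K).tor_range S] at hh'
      obtain ⟨c, rfl⟩ := hh'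
      rw [stMap_tor]
      show _ ∈ (stOf H K).T
      rw [← (stOf H K).tor_range S]
      exact ⟨_, rfl⟩) (PreSt.mem_Grp S E (stOf_gen H) g) hg
  have hh' : h ∈ (stOf H K).T := hh
  rw [← (stOf H K).tor_range S] at hh'
  obtain ⟨c, rfl⟩ := hh'
  rw [stMap_tor] at h2
  have h4 := hinj h2
  have h5 : ∀ i, ∃ c₀ : Fˣ, Units.map (ι : F →* K) c₀ = c i := by
    intro i
    have h6 := congrArg Units.val (congrFun h4 i)
    obtain ⟨t₀, h7⟩ := hfix _ h6
    have h8 : t₀ ≠ 0 := by
      rintro rfl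
      rw [map_zero] at h7
      exact (c i).ne_zero h7.symm
    exact ⟨Units.mk0 t₀ h8, Units.ext h7⟩
  choose c₀ hc₀ using h5
  obtain ⟨v₀, hv₀, e1⟩ := fixed_U hD ι σ hfix (θ_U E H S hv) (by rw [← θ_stMap, h1])
  obtain ⟨x₀, hx₀, e2⟩ := fixed_U hD ι σ hfix (θ_U E H S hx) (by rw [← θ_stMap, h3])
  refine ⟨v₀ * (stOf H F).θ ((stOf H F).tor S c₀) * (chev E H F).nd L * x₀, ?_, ?_⟩
  · rw [← chev_Grp E H]
    refine mul_mem (mul_mem (mul_mem ?_ ?_) ?_) ?_
    · exact RGrp.B_le_Grp (RGrp.U_le_B _ (by rw [chev_U]; exact hv₀))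
    · exact RGrp.B_le_Grp (RGrp.H_le_B _ (by rw [chev_H]; exact tor_mem_diag hD S c₀))
    · exact RGrp.N_le_Grp (RGrp.nd_mem_N L)
    · exact RGrp.B_le_Grp (RGrp.U_le_B _ (by rw [chev_U]; exact hx₀))
  · rw [map_mul, map_mul, map_mul, e1, e2, ← θ_stMap, stMap_tor, glMap_nd, e, map_mul, map_mul, map_mul, θ_nd]
    have e3 : (fun i => Units.map (ι : F →* K) (c₀ i)) = c := funext hc₀
    rw [e3]

section main

variable (hD : D ∈ data) (S : SP D) (hsym : SymC D) (hinj : Function.Injective ((stOf (good_of_mem hD) K).tor S)) (ι : F →+* K)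
    (σ : K →+* K) (hι : ∀ t, σ (ι t) = ι t) (hfix : ∀ t, σ t = t → ∃ t₀, ι t₀ = t) {q : ℕ} (hσ : ∀ t, σ t = t ^ q)
    {g n : GL D.Idx K} (hg : g ∈ D.group K) (hn : n ∈ (chev E (good_of_mem hD) K).N) {u : Equiv.Perm (Fin D.nroots)}
    (hact : (chev E (good_of_mem hD) K).Act n u) (hgn : g⁻¹ * glMap D.Idx σ g = n)

include hσ in
lemma stMap_frob (H : Good D) (c : Fin D.rank → Kˣ) : stMap H σ ((stOf H K).tor S c) = (stOf H K).tor S (c ^ q) := by
  rw [stMap_tor]
  congr 1
  funext i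
  apply Units.ext
  simp [hσ]

include hsym hσ hg hn hact hgn in
lemma exists_lift : ∃ gh nh : D.SteinbergGroup K, (stOf (good_of_mem hD) K).θ gh = g ∧
    stMap (good_of_mem hD) σ gh = gh * nh ∧ ∀ c, nh * (stOf (good_of_mem hD) K).tor S c * nh⁻¹ =
      (stOf (good_of_mem hD) K).tor S (ChevU.mon (A := Kˣ) (wm E u)ᵀ c) := by
  set H := good_of_mem hD with hH
  have h1 : g ∈ (stOf H K).θ.range := by
    rw [(stOf H K).range_θ (stOf_gen H)]; exact hg
  obtain ⟨gh, hgh⟩ := h1
  refine ⟨gh, gh⁻¹ * stMap H σ gh, hgh, by group, ?_⟩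
  have h2 : (stOf H K).θ (gh⁻¹ * stMap H σ gh) = n := by
    rw [map_mul, map_inv, θ_stMap, hgh, hgn]
  obtain ⟨h3, h4⟩ := lift_N E hD S (g := gh⁻¹ * stMap H σ gh) (by rw [h2]; exact hn) (by rw [h2]; exact hact)
  intro c
  exact N_tor E H S hsym h3 h4 c

include hsym hinj hfix hσ hg hn hact hgn in
/-- torus elements give elements of the small group -/
theorem sc_A {c : Fin D.rank → Kˣ} (hc : ChevU.mon (A := Kˣ) (wm E u)ᵀ (c ^ q) = c) :
    ∃ y ∈ D.group F, glMap D.Idx ι y =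
      g * (stOf (good_of_mem hD) K).θ ((stOf (good_of_mem hD) K).tor S c) * g⁻¹ := by
  set H := good_of_mem hD with hH
  obtain ⟨gh, nh, h1, h2, h3⟩ := exists_lift E hD S hsym σ hσ hg hn hact hgn
  have h4 : stMap H σ (gh * (stOf H K).tor S c * gh⁻¹) = gh * (stOf H K).tor S c * gh⁻¹ := by
    rw [map_mul, map_mul, map_inv, h2, stMap_frob S σ hσ H]
    have h5 := h3 (c ^ q)
    rw [hc] at h5
    rw [← h5]; group
  obtain ⟨y, hy, e⟩ := fixed_st E hD S hinj ι σ hfix h4
  exact ⟨y, hy, by rw [e, map_mul, map_mul, map_inv, h1]⟩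

include hsym hinj hι hσ hg hn hact hgn in
/-- elements of the small group in the torus -/
theorem sc_B {y : GL D.Idx F} (hy : y ∈ D.group F) (hyd : g⁻¹ * glMap D.Idx ι y * g ∈ D.diagonalSubgroup K) :
    ∃ c : Fin D.rank → Kˣ, ChevU.mon (A := Kˣ) (wm E u)ᵀ (c ^ q) = c ∧
      g⁻¹ * glMap D.Idx ι y * g = (stOf (good_of_mem hD) K).θ ((stOf (good_of_mem hD) K).tor S c) := by
  set H := good_of_mem hD with hH
  obtain ⟨gh, nh, h1, h2, h3⟩ := exists_lift E hD S hsym σ hσ hg hn hact hgn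
  have h4 : y ∈ (stOf H F).θ.range := by
    rw [(stOf H F).range_θ (stOf_gen H)]; exact hy
  obtain ⟨yh, rfl⟩ := h4
  have h5 : (stOf H K).θ (gh⁻¹ * stMap H ι yh * gh) = g⁻¹ * glMap D.Idx ι ((stOf H F).θ yh) * g := by
    rw [map_mul, map_mul, map_inv, h1, θ_stMap]
  obtain ⟨c', hc'⟩ := diag_eq_tor hD S hyd
  have h6 : (stOf H K).θ ((gh⁻¹ * stMap H ι yh * gh) * ((stOf H K).tor S c')⁻¹) = 1 := by
    rw [map_mul, h5, map_inv, ← hc', mul_inv_cancel]
  have h7 := PreSt.mem_T_of_ker S E (stOf_gen H) h6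
  rw [← (stOf H K).tor_range S] at h7
  obtain ⟨c'', hc''⟩ := h7
  have h8 : gh⁻¹ * stMap H ι yh * gh = (stOf H K).tor S (c'' * c') := by
    rw [map_mul, hc'']; group
  refine ⟨c'' * c', ?_, by rw [← h5, h8]⟩
  have h9 : stMap H σ (stMap H ι yh) = stMap H ι yh := by
    have : (stMap H σ).comp (stMap H ι) = stMap H ι := by
      apply st_ext H
      intro r hr t
      rw [MonoidHom.comp_apply, stMap_x H ι hr, stMap_x H σ hr, hι]
    exact DFunLike.congr_fun this yh
  have h10 : stMap H σ ((stOf H K).tor S (c'' * c')) = nh⁻¹ * (stOf H K).tor S (c'' * c') * nh := by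
    rw [← h8, map_mul, map_mul, map_inv, h9, h2]; group
  rw [stMap_frob S σ hσ H] at h10
  apply hinj
  rw [← h3, h10]; group

/-- the matrix of the torus -/
noncomputable def Amat (q : ℕ) (u : Equiv.Perm (Fin D.nroots)) : Matrix (Fin D.rank) (Fin D.rank) ℤ :=
  (q : ℤ) • (1 : Matrix (Fin D.rank) (Fin D.rank) ℤ) - (wm E u⁻¹)ᵀ

lemma mon_smul_one {l : ℕ} (q : ℕ) (c : Fin l → Kˣ) : ChevU.mon (A := Kˣ) ((q : ℤ) • (1 : Matrix (Fin l) (Fin l) ℤ)) c = c ^ q := by
  funext j
  rw [ChevU.mon_apply, Finset.prod_eq_single j]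
  · rw [Matrix.smul_apply, Matrix.one_apply_eq, smul_eq_mul, mul_one, zpow_natCast]; rfl
  · intro i _ hij
    rw [Matrix.smul_apply, Matrix.one_apply_ne hij, smul_zero, _root_.zpow_zero]
  · intro h; exact absurd (Finset.mem_univ j) h

lemma mon_sub {l : ℕ} (A B : Matrix (Fin l) (Fin l) ℤ) (c : Fin l → Kˣ) :
    ChevU.mon (A := Kˣ) (A - B) c = ChevU.mon (A := Kˣ) A c * (ChevU.mon (A := Kˣ) B c)⁻¹ := by
  funext j
  rw [Pi.mul_apply, Pi.inv_apply, ChevU.mon_apply, ChevU.mon_apply, ChevU.mon_apply, ← Finset.prod_inv_distrib,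
    ← Finset.prod_mul_distrib]
  refine Finset.prod_congr rfl fun i _ => ?_
  rw [Matrix.sub_apply, sub_eq_add_neg, _root_.zpow_add, _root_.zpow_neg]

include E in
lemma mem_ker_Amat (hD : D ∈ data) {u : Equiv.Perm (Fin D.nroots)} (hu : u ∈ E.rp.wsys.W) {q : ℕ} (c : Fin D.rank → Kˣ) :
    c ∈ (ChevU.mon (A := Kˣ) (Amat E q u)).ker ↔ ChevU.mon (A := Kˣ) (wm E u)ᵀ (c ^ q) = c := by
  have G := good_of_mem hD
  have e1 : (wm E u)ᵀ * (wm E u⁻¹)ᵀ = 1 := by
    rw [← Matrix.transpose_mul, ← wm_mul E G (inv_mem hu), inv_mul_cancel, wm_one E G, Matrix.transpose_one]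
  have e2 : (wm E u⁻¹)ᵀ * (wm E u)ᵀ = 1 := by
    rw [← Matrix.transpose_mul, ← wm_mul E G hu, mul_inv_cancel, wm_one E G, Matrix.transpose_one]
  rw [MonoidHom.mem_ker, Amat, mon_sub, mon_smul_one, mul_inv_eq_one]
  constructor
  · intro h
    rw [h, ChevU.mon_mon, e2, ChevU.mon_one]
  · intro h
    conv_rhs => rw [← h]
    rw [ChevU.mon_mon, e1, ChevU.mon_one]

include hsym hinj hι hfix hσ hg hn hact hgn in
/-- the torus of the small group is a quotient of the torus of the Steinberg group -/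
theorem sc_hom : ∃ f : (ChevU.mon (A := Kˣ) (Amat E q u)).ker →* ↥(D.group F),
    (∀ c, glMap D.Idx ι ((f c : ↥(D.group F)) : GL D.Idx F) =
      g * (stOf (good_of_mem hD) K).θ ((stOf (good_of_mem hD) K).tor S (c : Fin D.rank → Kˣ)) * g⁻¹) ∧
    (∀ y : ↥(D.group F), g⁻¹ * glMap D.Idx ι (y : GL D.Idx F) * g ∈ D.diagonalSubgroup K → ∃ c, f c = y) ∧
    Nat.card f.ker = Nat.card {τ : Fin D.rank → Fˣ // ∀ j < D.rank, StSt.torChi D τ j = 1} := by
  set H := good_of_mem hD with hH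
  have hu : u ∈ E.rp.wsys.W := hact.mem
  have h1 : ∀ c : (ChevU.mon (A := Kˣ) (Amat E q u)).ker, ∃ y : ↥(D.group F), glMap D.Idx ι (y : GL D.Idx F) =
      g * (stOf H K).θ ((stOf H K).tor S (c : Fin D.rank → Kˣ)) * g⁻¹ := by
    intro c
    obtain ⟨y, hy, e⟩ := sc_A E hD S hsym hinj ι σ hfix hσ hg hn hact hgn ((mem_ker_Amat E hD hu (c : Fin D.rank → Kˣ)).1 c.2)
    exact ⟨⟨y, hy⟩, e⟩
  choose f₀ hf₀ using h1
  let f : (ChevU.mon (A := Kˣ) (Amat E q u)).ker →* ↥(D.group F) :=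
    { toFun := f₀
      map_one' := by
        apply Subtype.ext
        apply glMap_injective ι
        rw [hf₀, Subgroup.coe_one, map_one, map_one, mul_one, mul_inv_cancel]
        exact (map_one _).symm
      map_mul' := fun c d => by
        apply Subtype.ext
        apply glMap_injective ι
        rw [hf₀, Subgroup.coe_mul, Subgroup.coe_mul, map_mul, map_mul, map_mul, hf₀, hf₀]
        group }
  have hf : ∀ c, glMap D.Idx ι ((f c : ↥(D.group F)) : GL D.Idx F) =
      g * (stOf H K).θ ((stOf H K).tor S (c : Fin D.rank → Kˣ)) * g⁻¹ := hf₀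
  refine ⟨f, hf, ?_, ?_⟩
  · intro y hy
    obtain ⟨c, hc, e⟩ := sc_B E hD S hsym hinj ι σ hι hσ hg hn hact hgn y.2 hy
    refine ⟨⟨c, (mem_ker_Amat E hD hu c).2 hc⟩, ?_⟩
    apply Subtype.ext
    apply glMap_injective ι
    rw [hf]
    show g * (stOf H K).θ ((stOf H K).tor S c) * g⁻¹ = _
    rw [← e]; group
  · -- the kernel
    have hker : ∀ c, c ∈ f.ker ↔ ∀ j < D.rank, StSt.torChi D (c : Fin D.rank → Kˣ) j = 1 := by
      intro c
      rw [← (stOf H K).θ_tor_iff S, MonoidHom.mem_ker]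
      constructor
      · intro h
        have h2 := hf c
        rw [h, Subgroup.coe_one, map_one] at h2
        have h3 : (stOf H K).θ ((stOf H K).tor S (c : Fin D.rank → Kˣ)) = g⁻¹ * (g * (stOf H K).θ ((stOf H K).tor S (c : Fin D.rank → Kˣ)) * g⁻¹) * g := by
          group
        rw [h3, ← h2]; group
      · intro h
        apply Subtype.ext
        apply glMap_injective ι
        rw [hf, h, mul_one, mul_inv_cancel]
        exact (map_one _).symm
    obtain ⟨gh, nh, h1, h2, h3⟩ := exists_lift E hD S hsym σ hσ hg hn hact hgn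
    have hcent : ∀ c : Fin D.rank → Kˣ, (∀ j < D.rank, StSt.torChi D c j = 1) → ChevU.mon (A := Kˣ) (wm E u)ᵀ c = c := by
      intro c hc
      rw [← (stOf H K).θ_tor_iff S] at hc
      have h4 : (stOf H K).tor S c ∈ Subgroup.center (D.SteinbergGroup K) :=
        PreSt.ker_le_center (P := (stOf H K).toPreSt) S E (stOf_gen H) hc
      rw [Subgroup.mem_center_iff] at h4
      apply hinj
      rw [← h3, h4 nh]; group
    have hchi : ∀ τ : Fin D.rank → Fˣ, ∀ j, StSt.torChi D (fun i => Units.map (ι : F →* K) (τ i)) j =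
        Units.map (ι : F →* K) (StSt.torChi D τ j) := by
      intro τ j
      unfold StSt.torChi
      rw [map_prod]
      exact Finset.prod_congr rfl fun i _ => (map_zpow _ _ _).symm
    have hιinj : Function.Injective (Units.map (ι : F →* K)) := by
      intro a b hab
      apply Units.ext
      apply ι.injective
      exact congrArg Units.val hab
    have hfrob : ∀ τ : Fin D.rank → Fˣ, (fun i => Units.map (ι : F →* K) (τ i)) ^ q = (fun i => Units.map (ι : F →* K) (τ i)) := by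
      intro τ
      funext i
      apply Units.ext
      rw [Pi.pow_apply, Units.val_pow_eq_pow_val, ← hσ]
      exact hι _
    symm
    refine Nat.card_congr (Equiv.ofBijective (fun τ => ⟨⟨fun i => Units.map (ι : F →* K) (τ.1 i), ?_⟩, ?_⟩) ⟨?_, ?_⟩)
    · rw [mem_ker_Amat E hD hu, hfrob]
      apply hcent
      intro j hj
      rw [hchi, τ.2 j hj, map_one]
    · rw [hker]
      intro j hj
      show StSt.torChi D (fun i => Units.map (ι : F →* K) (τ.1 i)) j = 1
      rw [hchi, τ.2 j hj, map_one]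
    · intro τ τ' hττ
      apply Subtype.ext
      funext i
      apply hιinj
      have h4 := congrArg (fun z : f.ker => ((z : (ChevU.mon (A := Kˣ) (Amat E q u)).ker) : Fin D.rank → Kˣ) i) hττ
      exact h4
    · rintro ⟨⟨c, hc⟩, hc'⟩
      rw [hker] at hc'
      have hc1 : ∀ j < D.rank, StSt.torChi D c j = 1 := hc'
      have hcq : ∀ j < D.rank, StSt.torChi D (c ^ q) j = 1 := by
        intro j hj
        have : StSt.torChi D (c ^ q) j = (StSt.torChi D c j) ^ q := by
          unfold StSt.torChi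
          rw [← Finset.prod_pow]
          refine Finset.prod_congr rfl fun i _ => ?_
          rw [Pi.pow_apply, ← zpow_natCast, ← zpow_natCast, ← _root_.zpow_mul, ← _root_.zpow_mul, mul_comm]
        rw [this, hc1 j hj, one_pow]
      have h4 := (mem_ker_Amat E hD hu c).1 hc
      rw [hcent _ hcq] at h4
      have h5 : ∀ i, ∃ c₀ : Fˣ, Units.map (ι : F →* K) c₀ = c i := by
        intro i
        have h6 := congrArg Units.val (congrFun h4 i)
        rw [Pi.pow_apply, Units.val_pow_eq_pow_val, ← hσ] at h6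
        obtain ⟨t₀, h7⟩ := hfix _ h6
        have h8 : t₀ ≠ 0 := by
          rintro rfl
          rw [map_zero] at h7
          exact (c i).ne_zero h7.symm
        exact ⟨Units.mk0 t₀ h8, Units.ext h7⟩
      choose c₀ hc₀ using h5
      have h9 : (fun i => Units.map (ι : F →* K) (c₀ i)) = c := funext hc₀
      refine ⟨⟨c₀, fun j hj => ?_⟩, ?_⟩
      · apply hιinj
        rw [← hchi, map_one, h9]
        exact hc1 j hj
      · apply Subtype.ext
        apply Subtype.ext
        exact h9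

end main

end Cfsg.Agent.ChevF
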