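import Cfsg.Agent.ChevF.ScTor2
import Cfsg.Agent.ChevF.E6L3

set_option autoImplicit false

/-!
Order and structure of tori; stabilizers in the Weyl group (helper19).
-/

namespace Cfsg.Agent.ChevF

open Cfsg.Lie Cfsg.Agent.Chev Cfsg.Agent.ChevGrp Cfsg.Agent.Steinb Matrix Polynomial

section lin

variable {l : ℕ}

/-- the eigenvalues of a matrix with separable characteristic polynomial are simple -/
theorem finrank_ker_le' {M : Matrix (Fin l) (Fin l) ℤ} {P : ℤ[X]} (hM : M.charpoly = P) {d : ℕ} (hPd : P ∣ X ^ d - 1)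
    {ℓ : ℕ} [hℓ : Fact ℓ.Prime] (hd : ¬ ℓ ∣ d) (q : ℤ) :
    Module.finrank (ZMod ℓ) (LinearMap.ker (Matrix.toLin' ((q • (1 : Matrix (Fin l) (Fin l) ℤ) - M).map
      (Int.castRingHom (ZMod ℓ))).transpose)) ≤ 1 := by
  set Mr := M.map (Int.castRingHom (ZMod ℓ)) with hMr
  have h1 : ((q • (1 : Matrix (Fin l) (Fin l) ℤ) - M).map (Int.castRingHom (ZMod ℓ))).transpose =
      (q : ZMod ℓ) • (1 : Matrix (Fin l) (Fin l) (ZMod ℓ)) - Mr.transpose := by
    ext i j
    simp only [hMr, Matrix.transpose_apply, Matrix.map_apply, Matrix.sub_apply, Matrix.smul_apply, Matrix.one_apply,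
      smul_eq_mul, map_sub, map_mul, eq_intCast]
    by_cases hij : i = j
    · simp [hij]
    · rw [if_neg hij, if_neg (Ne.symm hij)]; simp
  have h2 : LinearMap.ker (Matrix.toLin' ((q • (1 : Matrix (Fin l) (Fin l) ℤ) - M).map
      (Int.castRingHom (ZMod ℓ))).transpose) = Module.End.eigenspace (Matrix.toLin' Mr.transpose) (q : ZMod ℓ) := by
    ext z
    rw [h1, LinearMap.mem_ker, Module.End.mem_eigenspace_iff, Matrix.toLin'_apply, Matrix.toLin'_apply, Matrix.sub_mulVec,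
      Matrix.smul_mulVec, Matrix.one_mulVec, sub_eq_zero, eq_comm]
  rw [h2]
  refine (LinearMap.finrank_eigenspace_le _ _).trans ?_
  have h3 : (Matrix.toLin' Mr.transpose).charpoly = P.map (Int.castRingHom (ZMod ℓ)) := by
    rw [Matrix.charpoly_toLin', Matrix.charpoly_transpose, hMr, Matrix.charpoly_map, hM]
  rw [h3]
  have h4 : (X ^ d - 1 : (ZMod ℓ)[X]).Separable := by
    rw [Polynomial.X_pow_sub_one_separable_iff]
    exact fun h => hd ((ZMod.natCast_eq_zero_iff d ℓ).1 h)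
  refine Polynomial.rootMultiplicity_le_one_of_separable (h4.of_dvd ?_) _
  have h5 := Polynomial.map_dvd (Int.castRingHom (ZMod ℓ)) hPd
  simpa using h5

/-- polynomials in a matrix and a commuting fixed vector -/
lemma fix_poly {M B : Matrix (Fin l) (Fin l) ℤ} {x : Fin l → ℤ} (h : ∀ k : ℕ, B *ᵥ (M ^ k *ᵥ x) = M ^ k *ᵥ x) (C : ℚ[X]) :
    qm B *ᵥ ((aeval (qm M) C) *ᵥ qv x) = (aeval (qm M) C) *ᵥ qv x := by
  induction C using Polynomial.induction_on' with
  | add p q hp hq => rw [map_add, Matrix.add_mulVec, Matrix.mulVec_add, hp, hq]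
  | monomial n c =>
    rw [aeval_monomial, Algebra.algebraMap_eq_smul_one, smul_mul_assoc, one_mul, Matrix.smul_mulVec, Matrix.mulVec_smul]
    congr 1
    rw [← qm_pow, qm_mulVec, qm_mulVec, h]

end lin

variable {D : ChevalleyDatum} {F K : Type*} [Field F] [Field K] (E : DData D)

section card

variable [Fintype K]

lemma Amat_pow (hD : D ∈ data) {u : Equiv.Perm (Fin D.nroots)} (hu : u ∈ E.rp.wsys.W) {N : ℕ}
    (hWN : Nat.card E.rp.wsys.W ∣ N) : ((wm E u⁻¹)ᵀ) ^ N = 1 := by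
  have G := good_of_mem hD
  have huN : u⁻¹ ^ Nat.card E.rp.wsys.W = 1 := by
    have := pow_card_eq_one' (x := (⟨u⁻¹, inv_mem hu⟩ : E.rp.wsys.W))
    exact congrArg Subtype.val this
  obtain ⟨k, hk⟩ := hWN
  rw [← Matrix.transpose_pow, ← wm_pow E G (inv_mem hu), hk, pow_mul, huN, one_pow, wm_one E G, Matrix.transpose_one]

/-- the order of the torus of the Steinberg group -/
theorem card_ker_Amat (hD : D ∈ data) {u : Equiv.Perm (Fin D.nroots)} (hu : u ∈ E.rp.wsys.W) {q N : ℕ} (hq0 : 0 < q)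
    (hWN : Nat.card E.rp.wsys.W ∣ N) (hK : Fintype.card K = q ^ N) {P : ℤ[X]} (hcp : (wm E u⁻¹).charpoly = P) :
    Nat.card (ChevU.mon (A := Kˣ) (Amat E q u)).ker = (P.eval (q : ℤ)).natAbs := by
  obtain ⟨M, hM⟩ : ∃ M, M = (wm E u⁻¹)ᵀ := ⟨_, rfl⟩
  have hMN : M ^ N = 1 := by rw [hM, Amat_pow E hD hu hWN]
  have hcardK : (Nat.card Kˣ : ℤ) = (q : ℤ) ^ N - 1 := by
    rw [Nat.card_units, Nat.card_eq_fintype_card, hK, Nat.cast_sub (Nat.one_le_pow _ _ hq0)]
    push_cast; ring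
  have hcomm : Commute ((q : ℤ) • (1 : Matrix (Fin D.rank) (Fin D.rank) ℤ)) M := by
    rw [Commute, SemiconjBy, smul_mul_assoc, one_mul, mul_smul_comm, mul_one]
  have hpowq : ((q : ℤ) • (1 : Matrix (Fin D.rank) (Fin D.rank) ℤ)) ^ N - M ^ N = (Nat.card Kˣ : ℤ) • (1 : Matrix (Fin D.rank) (Fin D.rank) ℤ) := by
    rw [hMN, _root_.smul_pow, one_pow, hcardK, sub_smul, one_smul]
  have hAB := hcomm.mul_geom_sum₂ N
  rw [hpowq] at hAB
  have hBA := hcomm.geom_sum₂_mul N
  rw [hpowq] at hBA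
  have hdet : ((q : ℤ) • (1 : Matrix (Fin D.rank) (Fin D.rank) ℤ) - M).det = P.eval (q : ℤ) := by
    rw [← hcp, ← Matrix.charpoly_transpose, ← hM, Matrix.eval_charpoly, Matrix.smul_one_eq_diagonal, Matrix.scalar_apply]
  rw [Amat, ← hM, card_ker_mon_of_mul hAB hBA, hdet]

/-- cyclicity of the torus of the Steinberg group -/
theorem cyclic_ker_Amat {u : Equiv.Perm (Fin D.nroots)} {q : ℕ}
    (h : ∀ ℓ : ℕ, ∀ [Fact ℓ.Prime], (¬ ℓ ^ 2 ∣ Nat.card (ChevU.mon (A := Kˣ) (Amat E q u)).ker) ∨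
      Module.finrank (ZMod ℓ) (LinearMap.ker (Matrix.toLin' ((Amat E q u).map (Int.castRingHom (ZMod ℓ))).transpose)) ≤ 1) :
    IsCyclic (ChevU.mon (A := Kˣ) (Amat E q u)).ker := by
  apply isCyclic_of_torsion
  intro ℓ hℓ
  haveI : Fact ℓ.Prime := ⟨hℓ⟩
  rcases h ℓ with h1 | h1
  · set S := (powMonoidHom ℓ : (ChevU.mon (A := Kˣ) (Amat E q u)).ker →* (ChevU.mon (A := Kˣ) (Amat E q u)).ker).ker with hS
    have h6 : IsPGroup ℓ S := by
      intro y
      refine ⟨1, ?_⟩
      apply Subtype.ext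
      rw [pow_one]
      exact y.2
    obtain ⟨k, hk⟩ := IsPGroup.iff_card.1 h6
    rw [hk]
    have h7 : ℓ ^ k ∣ Nat.card (ChevU.mon (A := Kˣ) (Amat E q u)).ker := by
      rw [← hk]; exact Subgroup.card_subgroup_dvd_card S
    have h8 : k ≤ 1 := by
      by_contra hcon
      exact h1 ((pow_dvd_pow ℓ (by omega)).trans h7)
    calc ℓ ^ k ≤ ℓ ^ 1 := Nat.pow_le_pow_right hℓ.pos h8
      _ = ℓ := pow_one ℓ
  · exact card_torsion_le h1

end card

section stab

/-- the norm of a subgroup of the Weyl group normalized by `u` -/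
theorem exists_Nm (hD : D ∈ data) {S : Subgroup (Equiv.Perm (Fin D.nroots))} (hSW : S ≤ E.rp.wsys.W)
    {u : Equiv.Perm (Fin D.nroots)} (hu : u ∈ E.rp.wsys.W) (hnorm : ∀ v ∈ S, u⁻¹ * v * u ∈ S) :
    ∃ Nm : Matrix (Fin D.rank) (Fin D.rank) ℤ,
      (∀ R : ℤ[X], ∀ v ∈ S, wm E v * (aeval (wm E u) R * Nm) = aeval (wm E u) R * Nm) ∧
      ∀ (t : GL D.Idx K) (r : ℕ) [Fact r.Prime] (z : K) (a : Fin D.rank → ℤ) (q : ℕ), IsPrimitiveRoot z r →
        t ∈ D.diagonalSubgroup K → t ≠ 1 → (∀ i, ev t (E.rp.wsys.p i) = z ^ a i) → (∀ s, ev t (u s) = ev t s ^ q) →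
        (∀ v ∈ S, ∀ s, ev t (v s) = ev t s) → ¬ r ∣ Nat.card E.rp.wsys.W → ∀ R : ℤ[X],
        (R.map (Int.castRingHom (ZMod r))).eval (q : ZMod r) ≠ 0 → aeval (wm E u) R * Nm ≠ 0 := by
  classical
  have G := good_of_mem hD
  haveI : Fintype S := Fintype.ofFinite _
  have hnormk : ∀ k : ℕ, ∀ v ∈ S, (u ^ k)⁻¹ * v * u ^ k ∈ S := by
    intro k
    induction k with
    | zero => intro v hv; simpa using hv
    | succ k ih =>
      intro v hv
      have := hnorm _ (ih v hv)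
      have e : (u ^ (k + 1))⁻¹ * v * u ^ (k + 1) = u⁻¹ * ((u ^ k)⁻¹ * v * u ^ k) * u := by
        rw [pow_succ]; group
      rw [e]; exact this
  obtain ⟨Nm, hNm⟩ : ∃ Nm : Matrix (Fin D.rank) (Fin D.rank) ℤ, Nm = ∑ v : S, wm E (v : Equiv.Perm (Fin D.nroots)) := ⟨_, rfl⟩
  have hvN : ∀ v ∈ S, wm E v * Nm = Nm := by
    intro v hv
    rw [hNm, Finset.mul_sum]
    refine Fintype.sum_equiv (Equiv.mulLeft (⟨v, hv⟩ : S)) _ _ ?_
    intro w
    rw [← wm_mul E G (hSW hv)]
    rfl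
  refine ⟨Nm, ?_, ?_⟩
  · intro R v hv
    induction R using Polynomial.induction_on' with
    | add p q hp hq => rw [map_add, add_mul, mul_add, hp, hq]
    | monomial n c =>
      rw [aeval_monomial, Algebra.algebraMap_eq_smul_one, smul_mul_assoc, one_mul, smul_mul_assoc, mul_smul_comm]
      congr 1
      rw [← wm_pow E G hu, ← mul_assoc, ← wm_mul E G (hSW hv)]
      have e : v * u ^ n = u ^ n * ((u ^ n)⁻¹ * v * u ^ n) := by group
      rw [e, wm_mul E G (pow_mem hu n), mul_assoc, hvN _ (hnormk n v hv)]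
  · intro t r hr z a q hz ht ht1 ha h hSt hW R hR h0
    have hcardS : ¬ r ∣ Fintype.card S := by
      intro hd
      apply hW
      rw [← Nat.card_eq_fintype_card] at hd
      exact hd.trans (Subgroup.card_dvd_of_le hSW)
    have hlog : ∀ v ∈ S, (fun i => ((a i : ℤ) : ZMod r)) ᵥ* (wm E v).map (Int.castRingHom (ZMod r)) = (fun i => ((a i : ℤ) : ZMod r)) := by
      intro v hv
      have := log_eigen E hD hr.out.ne_zero hz ht ha (u := v) (q := 1) (fun s => by rw [pow_one]; exact hSt v hv s)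
      rw [this, Nat.cast_one, one_smul]
    have hlogu := log_eigen E hD hr.out.ne_zero hz ht ha h
    have ha0 := log_ne_zero E hD hr.out.ne_zero hz ht ht1 ha
    have h1 : (fun i => ((a i : ℤ) : ZMod r)) ᵥ* Nm.map (Int.castRingHom (ZMod r)) = (Fintype.card S : ZMod r) • (fun i => ((a i : ℤ) : ZMod r)) := by
      have h2 : Nm.map (Int.castRingHom (ZMod r)) = ∑ v : S, (wm E (v : Equiv.Perm (Fin D.nroots))).map (Int.castRingHom (ZMod r)) := by
        rw [hNm]
        exact map_sum (RingHom.mapMatrix (m := Fin D.rank) (Int.castRingHom (ZMod r))) _ _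
      rw [h2, Matrix.vecMul_sum]
      rw [Finset.sum_congr rfl (fun (v : S) _ => hlog (v : Equiv.Perm (Fin D.nroots)) v.2), Finset.sum_const, Finset.card_univ, ← Nat.cast_smul_eq_nsmul (ZMod r)]
    set Mr : Matrix (Fin D.rank) (Fin D.rank) (ZMod r) := (wm E u).map (Int.castRingHom (ZMod r)) with hMr
    have hpow : ∀ k : ℕ, (fun i => ((a i : ℤ) : ZMod r)) ᵥ* (Mr ^ k) = (q : ZMod r) ^ k • (fun i => ((a i : ℤ) : ZMod r)) := by
      intro k
      induction k with
      | zero => simp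
      | succ k ih => rw [pow_succ, ← Matrix.vecMul_vecMul, ih, Matrix.smul_vecMul, hlogu, smul_smul, ← pow_succ]
    have hpoly : ∀ p : ℤ[X], (fun i => ((a i : ℤ) : ZMod r)) ᵥ* ((aeval (wm E u) p).map (Int.castRingHom (ZMod r))) =
        (p.map (Int.castRingHom (ZMod r))).eval (q : ZMod r) • (fun i => ((a i : ℤ) : ZMod r)) := by
      intro p
      have e1 : (aeval (wm E u) p).map (Int.castRingHom (ZMod r)) = aeval Mr (p.map (Int.castRingHom (ZMod r))) := by
        have := Polynomial.map_aeval_eq_aeval_map (R := ℤ) (S := Matrix (Fin D.rank) (Fin D.rank) ℤ) (T := ZMod r)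
          (U := Matrix (Fin D.rank) (Fin D.rank) (ZMod r)) (φ := Int.castRingHom (ZMod r))
          (ψ := RingHom.mapMatrix (m := Fin D.rank) (Int.castRingHom (ZMod r))) (by ext; simp) p (wm E u)
        exact this
      rw [e1]
      generalize p.map (Int.castRingHom (ZMod r)) = p'
      induction p' using Polynomial.induction_on' with
      | add p1 p2 h1 h2 => rw [map_add, Matrix.vecMul_add, h1, h2, eval_add, add_smul]
      | monomial n c =>
        rw [aeval_monomial, eval_monomial, Algebra.algebraMap_eq_smul_one, smul_mul_assoc, one_mul, Matrix.vecMul_smul,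
          hpow, smul_smul]
    have h2 : (fun i => ((a i : ℤ) : ZMod r)) ᵥ* ((aeval (wm E u) R * Nm).map (Int.castRingHom (ZMod r))) =
        ((R.map (Int.castRingHom (ZMod r))).eval (q : ZMod r) * (Fintype.card S : ZMod r)) • (fun i => ((a i : ℤ) : ZMod r)) := by
      have e1 : (aeval (wm E u) R * Nm).map (Int.castRingHom (ZMod r)) =
          (aeval (wm E u) R).map (Int.castRingHom (ZMod r)) * Nm.map (Int.castRingHom (ZMod r)) :=
        map_mul (RingHom.mapMatrix (m := Fin D.rank) (Int.castRingHom (ZMod r))) _ _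
      rw [e1, ← Matrix.vecMul_vecMul, hpoly, Matrix.smul_vecMul, h1, smul_smul]
    have h3 : (0 : Matrix (Fin D.rank) (Fin D.rank) ℤ).map (Int.castRingHom (ZMod r)) = 0 :=
      map_zero (RingHom.mapMatrix (m := Fin D.rank) (Int.castRingHom (ZMod r)))
    rw [h0, h3, Matrix.vecMul_zero, eq_comm, smul_eq_zero] at h2
    rcases h2 with h4 | h4
    · rcases mul_eq_zero.1 h4 with h5 | h5
      · exact hR h5
      · rw [ZMod.natCast_eq_zero_iff] at h5; exact hcardS h5
    · exact ha0 h4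

/-- the centralizer of a regular element and a further element -/
theorem cent_eq2 (hD : D ∈ data) {t t' : GL D.Idx K} (ht : t ∈ D.diagonalSubgroup K) (ht' : t' ∈ D.diagonalSubgroup K)
    (hreg : ∀ s, ev t s ≠ 1)
    (hst : ∀ v ∈ E.rp.wsys.W, (∀ s, ev t (v s) = ev t s) → (∀ s, ev t' (v s) = ev t' s) → v = 1)
    {y : GL D.Idx K} (hy : y ∈ D.group K) (hc : y * t = t * y) (hc' : y * t' = t' * y) : y ∈ D.diagonalSubgroup K := by
  obtain ⟨b, hb, n, hn, x, hx, e, h⟩ := fusion E hD hy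
  have h1 : y * t * y⁻¹ = t := by rw [hc]; group
  have h1' : y * t' * y⁻¹ = t' := by rw [hc']; group
  obtain ⟨h2, h3, h4⟩ := h t ht (by rw [h1]; exact ht)
  obtain ⟨h2', h3', h4'⟩ := h t' ht' (by rw [h1']; exact ht')
  rw [h1] at h2
  rw [h1'] at h2'
  rw [h2] at h4
  have hx1 := cent_U hD ht hreg hx h3
  have hb1 := cent_U hD ht hreg hb h4
  obtain ⟨v, hv⟩ := RGrp.exists_act hn
  have h5 : ∀ s, ev t (v s) = ev t s := by
    intro s
    have := N_conj_ev E hD hn hv ht s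
    rwa [h2] at this
  have h5' : ∀ s, ev t' (v s) = ev t' s := by
    intro s
    have := N_conj_ev E hD hn hv ht' s
    rwa [h2'] at this
  have h6 := hst v hv.mem h5 h5'
  rw [h6] at hv
  have h7 := RGrp.mem_H_of_act_one hn hv
  rw [e, hx1, hb1, mul_one, one_mul]
  exact h7

end stab

end Cfsg.Agent.ChevF
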