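import Cfsg.Agent.ChevF.Frame

set_option autoImplicit false

/-!
Stabilizers of elements of prime order in the torus, regularity, centralizers (helper19).
-/

namespace Cfsg.Agent.ChevF

open Cfsg.Lie Cfsg.Agent.Chev Cfsg.Agent.ChevGrp Matrix Polynomial

variable {D : ChevalleyDatum} (E : DData D)

section

variable {K : Type*} [Field K]

/-- a homomorphism from the root lattice given by logarithms -/
lemma ev_log (hD : D ∈ data) {t : GL D.Idx K} (z : K) (hz : z ≠ 0) (ht : t ∈ D.diagonalSubgroup K)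
    {a : Fin D.rank → ℤ} (ha : ∀ i, ev t (E.rp.wsys.p i) = z ^ a i) (s : Fin D.nroots) :
    ev t s = z ^ (a ⬝ᵥ rv D s) := by
  rw [ev_eq_prod E hD ht]
  simp only [ha, ← _root_.zpow_mul]
  unfold dotProduct rv
  have : ∀ (T : Finset (Fin D.rank)) (f : Fin D.rank → ℤ), ∏ i ∈ T, z ^ f i = z ^ ∑ i ∈ T, f i := by
    classical
    intro T f
    induction T using Finset.induction_on with
    | empty => simp
    | insert i T hi ih => rw [Finset.prod_insert hi, Finset.sum_insert hi, zpow_add₀ hz, ih]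
  rw [this]

lemma ev_lin (hD : D ∈ data) {h : GL D.Idx K} (hh : h ∈ D.diagonalSubgroup K) {a b c : Fin D.nroots} {x y : ℤ}
    (he : ∀ j < D.rank, vec D c j = x * vec D a j + y * vec D b j) : ev h c = ev h a ^ x * ev h b ^ y := by
  obtain ⟨χ, rfl⟩ := exists_tor hD hh
  rw [ev_torHom, ev_torHom, ev_torHom, chr_lin he]
  push_cast
  rfl

/-- logarithms of an element of prime order -/
lemma exists_log [Fintype K] (hD : D ∈ data) {r : ℕ} [hr : Fact r.Prime] (hr1 : r ∣ Fintype.card K - 1)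
    {t : GL D.Idx K} (ht : t ∈ D.diagonalSubgroup K) (htr : t ^ r = 1) :
    ∃ z : K, IsPrimitiveRoot z r ∧ ∃ a : Fin D.rank → ℤ, ∀ i, ev t (E.rp.wsys.p i) = z ^ a i := by
  have h1 : r ∣ Nat.card Kˣ := by rw [Nat.card_units, Nat.card_eq_fintype_card]; exact hr1
  obtain ⟨x, hx⟩ := exists_prime_orderOf_dvd_card' r h1
  have h2 : IsPrimitiveRoot (x : K) r := by
    rw [IsPrimitiveRoot.coe_units_iff]
    rw [← hx]; exact IsPrimitiveRoot.orderOf x
  refine ⟨x, h2, ?_⟩
  have h3 : ∀ i, ∃ k : ℤ, ev t (E.rp.wsys.p i) = (x : K) ^ k := by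
    intro i
    have h4 : ev t (E.rp.wsys.p i) ^ r = 1 := by rw [← ev_pow hD ht, htr, ev_one]
    obtain ⟨k, -, hk⟩ := h2.eq_pow_of_pow_eq_one h4
    exact ⟨k, by rw [zpow_natCast]; exact hk.symm⟩
  choose a ha using h3
  exact ⟨a, ha⟩

lemma zpow_eq_iff {z : K} {r : ℕ} (hz : IsPrimitiveRoot z r) (hr : r ≠ 0) (a b : ℤ) :
    z ^ a = z ^ b ↔ ((a : ZMod r) = b) := by
  have hz0 : z ≠ 0 := hz.ne_zero hr
  rw [← sub_eq_zero (a := (a : ZMod r)), ← Int.cast_sub, ZMod.intCast_zmod_eq_zero_iff_dvd, ← hz.zpow_eq_one_iff_dvd,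
    zpow_sub₀ hz0, div_eq_one_iff_eq (zpow_ne_zero b hz0)]

/-- the logarithm vector is an eigenvector -/
lemma log_eigen (hD : D ∈ data) {r : ℕ} (hr0 : r ≠ 0) {z : K} (hz : IsPrimitiveRoot z r)
    {t : GL D.Idx K} (ht : t ∈ D.diagonalSubgroup K) {a : Fin D.rank → ℤ}
    (ha : ∀ i, ev t (E.rp.wsys.p i) = z ^ a i) {u : Equiv.Perm (Fin D.nroots)} {q : ℕ}
    (h : ∀ s, ev t (u s) = ev t s ^ q) :
    (fun i => ((a i : ℤ) : ZMod r)) ᵥ* (wm E u).map (Int.castRingHom (ZMod r)) = (q : ZMod r) • (fun i => ((a i : ℤ) : ZMod r)) := by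
  funext j
  have h1 := h (E.rp.wsys.p j)
  rw [ev_log E hD z (hz.ne_zero hr0) ht ha, ha, ← zpow_natCast, ← _root_.zpow_mul, zpow_eq_iff hz hr0] at h1
  have h2 : (((a ⬝ᵥ rv D (u (E.rp.wsys.p j)) : ℤ)) : ZMod r) =
      ((fun i => ((a i : ℤ) : ZMod r)) ᵥ* (wm E u).map (Int.castRingHom (ZMod r))) j := by
    simp only [dotProduct, vecMul, rv, wm, Matrix.map_apply]
    push_cast
    rfl
  rw [← h2, h1, Pi.smul_apply, smul_eq_mul]
  push_cast
  ring

lemma log_ne_zero (hD : D ∈ data) {r : ℕ} (hr0 : r ≠ 0) {z : K} (hz : IsPrimitiveRoot z r)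
    {t : GL D.Idx K} (ht : t ∈ D.diagonalSubgroup K) (ht1 : t ≠ 1) {a : Fin D.rank → ℤ}
    (ha : ∀ i, ev t (E.rp.wsys.p i) = z ^ a i) : (fun i => ((a i : ℤ) : ZMod r)) ≠ 0 := by
  intro h0
  apply ht1
  apply ev_ext E hD ht (one_mem _)
  intro i
  rw [ha, ev_one]
  have h1 : ((a i : ℤ) : ZMod r) = ((0 : ℤ) : ZMod r) := by
    have := congrFun h0 i
    simpa using this
  rw [(zpow_eq_iff hz hr0 (a i) 0).2 h1, zpow_zero]

/-- the stabilizer in `W` of an element of prime order is trivial -/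
theorem stab_trivial (hD : D ∈ data) {r : ℕ} [hr : Fact r.Prime] {z : K} (hz : IsPrimitiveRoot z r)
    {t : GL D.Idx K} (ht : t ∈ D.diagonalSubgroup K) (ht1 : t ≠ 1) {a : Fin D.rank → ℤ}
    (ha : ∀ i, ev t (E.rp.wsys.p i) = z ^ a i) {u : Equiv.Perm (Fin D.nroots)} (hu : u ∈ E.rp.wsys.W) {q : ℕ}
    (hq : ∀ x y : K, x ^ q = y ^ q → x = y) (h : ∀ s, ev t (u s) = ev t s ^ q)
    (hW : ¬ r ∣ Nat.card E.rp.wsys.W) {P : ℚ[X]} (hP : Irreducible P) (hdeg : P.natDegree = D.rank)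
    (hPM : aeval ((wm E u).map (Int.castRingHom ℚ)) P = 0) {v : Equiv.Perm (Fin D.nroots)} (hv : v ∈ E.rp.wsys.W)
    (hvt : ∀ s, ev t (v s) = ev t s) : v = 1 := by
  classical
  have G := good_of_mem hD
  -- the stabilizer
  let S : Subgroup (Equiv.Perm (Fin D.nroots)) :=
    { carrier := {v | v ∈ E.rp.wsys.W ∧ ∀ s, ev t (v s) = ev t s}
      mul_mem' := fun {v w} hv hw => ⟨mul_mem hv.1 hw.1, fun s => by rw [Equiv.Perm.mul_apply, hv.2, hw.2]⟩
      one_mem' := ⟨one_mem _, fun s => rfl⟩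
      inv_mem' := fun {v} hv => ⟨inv_mem hv.1, fun s => by
        have := hv.2 (v⁻¹ s)
        have e : v (v⁻¹ s) = s := v.apply_symm_apply s
        rw [e] at this
        exact this.symm⟩ }
  have hSW : S ≤ E.rp.wsys.W := fun v hv => hv.1
  haveI : Fintype S := Fintype.ofFinite _
  have hcardS : ¬ r ∣ Fintype.card S := by
    intro hd
    apply hW
    rw [← Nat.card_eq_fintype_card] at hd
    exact hd.trans (Subgroup.card_dvd_of_le hSW)
  -- `u` normalizes `S`
  have hnorm : ∀ v ∈ S, u⁻¹ * v * u ∈ S := by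
    intro v hv
    refine ⟨mul_mem (mul_mem (inv_mem hu) hv.1) hu, fun s => ?_⟩
    apply hq
    rw [← h, ← h]
    have : u ((u⁻¹ * v * u) s) = v (u s) := by simp [Equiv.Perm.mul_apply]
    rw [this, hv.2]
  have hnormk : ∀ k : ℕ, ∀ v ∈ S, (u ^ k)⁻¹ * v * u ^ k ∈ S := by
    intro k
    induction k with
    | zero => intro v hv; simpa using hv
    | succ k ih =>
      intro v hv
      have := hnorm _ (ih v hv)
      have e : (u ^ (k + 1))⁻¹ * v * u ^ (k + 1) = u⁻¹ * ((u ^ k)⁻¹ * v * u ^ k) * u := by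
        rw [pow_succ]; group
      rw [e]; exact this
  set Nm : Matrix (Fin D.rank) (Fin D.rank) ℤ := ∑ v : S, wm E (v : Equiv.Perm (Fin D.nroots)) with hNm
  have hvN : ∀ v ∈ S, wm E v * Nm = Nm := by
    intro v hv
    rw [hNm, Finset.mul_sum]
    refine Fintype.sum_equiv (Equiv.mulLeft (⟨v, hv⟩ : S)) _ _ ?_
    intro w
    rw [← wm_mul E G hv.1]
    rfl
  -- `Nm ≠ 0`
  have hlog : ∀ v ∈ S, (fun i => ((a i : ℤ) : ZMod r)) ᵥ* (wm E v).map (Int.castRingHom (ZMod r)) = (fun i => ((a i : ℤ) : ZMod r)) := by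
    intro v hv
    have := log_eigen E hD hr.out.ne_zero hz ht ha (u := v) (q := 1) (fun s => by rw [pow_one]; exact hv.2 s)
    rw [this, Nat.cast_one, one_smul]
  have ha0 := log_ne_zero E hD hr.out.ne_zero hz ht ht1 ha
  have hN0 : Nm ≠ 0 := by
    intro h0
    have h1 : (fun i => ((a i : ℤ) : ZMod r)) ᵥ* Nm.map (Int.castRingHom (ZMod r)) = (Fintype.card S : ZMod r) • (fun i => ((a i : ℤ) : ZMod r)) := by
      have h2 : Nm.map (Int.castRingHom (ZMod r)) = ∑ v : S, (wm E (v : Equiv.Perm (Fin D.nroots))).map (Int.castRingHom (ZMod r)) := by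
        rw [hNm]
        exact map_sum (RingHom.mapMatrix (m := Fin D.rank) (Int.castRingHom (ZMod r))) _ _
      rw [h2, Matrix.vecMul_sum]
      rw [Finset.sum_congr rfl (fun (v : S) _ => hlog (v : Equiv.Perm (Fin D.nroots)) v.2), Finset.sum_const, Finset.card_univ, ← Nat.cast_smul_eq_nsmul (ZMod r)]
    have h3 : (0 : Matrix (Fin D.rank) (Fin D.rank) ℤ).map (Int.castRingHom (ZMod r)) = 0 :=
      map_zero (RingHom.mapMatrix (m := Fin D.rank) (Int.castRingHom (ZMod r)))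
    rw [h0, h3, Matrix.vecMul_zero, eq_comm, smul_eq_zero] at h1
    rcases h1 with h4 | h4
    · rw [ZMod.natCast_eq_zero_iff] at h4; exact hcardS h4
    · exact ha0 h4
  set Mq := (wm E u).map (Int.castRingHom ℚ) with hMq
  set Nq := Nm.map (Int.castRingHom ℚ) with hNq
  have hNq0 : Nq ≠ 0 := by
    intro h0
    apply hN0
    ext i j
    have := congrFun (congrFun h0 i) j
    rw [hNq, Matrix.map_apply, Matrix.zero_apply, eq_intCast, Int.cast_eq_zero] at this
    exact this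
  have hex : ∃ j, Nq *ᵥ (Pi.single j 1) ≠ 0 := by
    by_contra hcon
    push Not at hcon
    apply hNq0
    ext i j
    have := congrFun (hcon j) i
    rw [Matrix.mulVec_single_one] at this
    exact this
  obtain ⟨j, hj⟩ := hex
  have hpow : ∀ k : ℕ, Mq ^ k = (wm E (u ^ k)).map (Int.castRingHom ℚ) := by
    intro k
    rw [wm_pow E G hu, hMq]
    exact (map_pow (RingHom.mapMatrix (m := Fin D.rank) (Int.castRingHom ℚ)) (wm E u) k).symm
  have hmulq : ∀ A B : Matrix (Fin D.rank) (Fin D.rank) ℤ, A.map (Int.castRingHom ℚ) * B.map (Int.castRingHom ℚ) =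
      (A * B).map (Int.castRingHom ℚ) := fun A B => (map_mul (RingHom.mapMatrix (m := Fin D.rank) (Int.castRingHom ℚ)) A B).symm
  have hkey : (wm E v).map (Int.castRingHom ℚ) = (1 : Matrix (Fin D.rank) (Fin D.rank) ℚ) := by
    apply mulVec_ext_of_irreducible hP hdeg hj (by rw [hPM, Matrix.zero_mulVec])
    intro i _
    rw [Matrix.one_mulVec, Matrix.mulVec_mulVec, Matrix.mulVec_mulVec, hpow, hNq, hmulq, hmulq, Matrix.mulVec_mulVec,
      hmulq, ← wm_mul E G hv]
    congr 2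
    have e : v * u ^ i = u ^ i * ((u ^ i)⁻¹ * v * u ^ i) := by group
    rw [e, wm_mul E G (pow_mem hu i), mul_assoc, hvN _ (hnormk i v ⟨hv, hvt⟩)]
  apply wm_inj E G hv (one_mem _)
  rw [wm_one E G]
  ext i j
  have := congrFun (congrFun hkey i) j
  rw [Matrix.map_apply, Matrix.one_apply, eq_intCast] at this
  rw [Matrix.one_apply]
  split_ifs at this ⊢ with hij
  · exact_mod_cast this
  · exact_mod_cast this

/-- an element with trivial stabilizer is regular -/
theorem regular_of_stab (hD : D ∈ data) {t : GL D.Idx K} (ht : t ∈ D.diagonalSubgroup K)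
    (h : ∀ v ∈ E.rp.wsys.W, (∀ s, ev t (v s) = ev t s) → v = 1) (s : Fin D.nroots) : ev t s ≠ 1 := by
  intro hs
  have G := good_of_mem hD
  obtain ⟨u, hu, i, rfl⟩ := E.rp.wsys.exists_conj_p s
  have h1 := h (u * E.rp.wsys.w i * u⁻¹) (mul_mem (mul_mem hu (E.rp.wsys.w_mem i)) (inv_mem hu)) (fun x => by
    have h2 : ev t (u (E.rp.wsys.w i (u⁻¹ x))) = ev t (u (u⁻¹ x)) ^ (1 : ℤ) * ev t (u (E.rp.wsys.p i)) ^ (- D.cartan i (u⁻¹ x)) := by
      apply ev_lin hD ht
      intro j hj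
      have h3 := congrFun (rv_W E G hu (E.rp.wsys.w i (u⁻¹ x))) ⟨j, hj⟩
      have h4 : rv D (E.rp.wsys.w i (u⁻¹ x)) = rv D (u⁻¹ x) + (- D.cartan i (u⁻¹ x)) • rv D (E.rp.wsys.p i) := by
        funext k
        rw [Pi.add_apply, Pi.smul_apply]
        unfold rv
        rw [w_val, G.vec_w i i.2 _ (u⁻¹ x).2 k k.2, p_val, G.vec_simple i i.2 k k.2, smul_eq_mul]
        by_cases hki : (k : ℕ) = i
        · rw [if_pos hki, if_pos hki.symm]; ring
        · rw [if_neg hki, if_neg (Ne.symm hki)]; ring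
      rw [h4, Matrix.mulVec_add, Matrix.mulVec_smul, ← rv_W E G hu, ← rv_W E G hu] at h3
      have h5 : vec D (u (E.rp.wsys.w i (u⁻¹ x))) j = vec D (u (u⁻¹ x)) j + (- D.cartan i (u⁻¹ x)) * vec D (u (E.rp.wsys.p i)) j := h3
      rw [h5]; ring
    have e5 : u (u⁻¹ x) = x := u.apply_symm_apply x
    rw [Equiv.Perm.mul_apply, Equiv.Perm.mul_apply, h2, hs, _root_.one_zpow, mul_one, _root_.zpow_one, e5])
  have h2 : E.rp.wsys.w i = 1 := by
    have : E.rp.wsys.w i = u⁻¹ * (u * E.rp.wsys.w i * u⁻¹) * u := by group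
    rw [this, h1]; group
  have h3 := congrArg (fun e : Equiv.Perm (Fin D.nroots) => e (E.rp.wsys.p i)) h2
  simp only [Equiv.Perm.one_apply] at h3
  rw [E.rp.wsys.w_p] at h3
  have h4 := E.rp.wsys.pos_neg_iff (E.rp.wsys.p i)
  rw [h3] at h4
  have := E.rp.wsys.pos_p i
  tauto

/-- `H` normalizes the terms of the filtration -/
lemma diag_conj_V (hD : D ∈ data) {t : GL D.Idx K} (ht : t ∈ D.diagonalSubgroup K) (k : ℕ) :
    ∀ v ∈ ChevU.V (ChevU.rootFacts hD).tab (F := K) k, t * v * t⁻¹ ∈ ChevU.V (ChevU.rootFacts hD).tab (F := K) k := by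
  intro v hv
  have h1 : ChevU.V (ChevU.rootFacts hD).tab (F := K) k ≤
      (ChevU.V (ChevU.rootFacts hD).tab (F := K) k).comap (MulAut.conj t).toMonoidHom := by
    conv_lhs => unfold ChevU.V
    rw [Subgroup.closure_le]
    rintro g ⟨s, a, h1, h2, h3, h4⟩
    have hg : g = xU (good_of_mem hD).toGood2 s a := Units.ext h4
    have := diag_mul_xU hD ht ⟨s, h3⟩ a
    have h5 : t * g * t⁻¹ ∈ ChevU.V (ChevU.rootFacts hD).tab (F := K) k := by
      rw [hg]
      rw [show xU (good_of_mem hD).toGood2 s a = xU (good_of_mem hD).toGood2 ((⟨s, h3⟩ : Fin D.nroots) : ℕ) a from rfl, this]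
      exact Subgroup.subset_closure ⟨s, _, h1, h2, h3, rfl⟩
    exact h5
  exact h1 hv

/-- a regular element has trivial centralizer in `U` -/
theorem cent_U (hD : D ∈ data) {t : GL D.Idx K} (ht : t ∈ D.diagonalSubgroup K) (hreg : ∀ s, ev t s ≠ 1)
    {x : GL D.Idx K} (hx : x ∈ D.posUnipotent K) (hc : x * t = t * x) : x = 1 := by
  set T := (ChevU.rootFacts hD).tab with hT
  have hn := T.n_eq
  rw [ChevU.posUnipotent_eq T, ← ChevU.V_half T (le_refl T.half)] at hx
  have key : ∀ m k, T.half ≤ k → k + m = D.nroots → x ∈ ChevU.V T (F := K) k → x = 1 := by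
    intro m
    induction m with
    | zero =>
      intro k _ hkm hg
      rwa [ChevU.V_top T (by omega), Subgroup.mem_bot] at hg
    | succ m ih =>
      intro k hk hkm hg
      obtain ⟨a, v, hv, e⟩ := ChevU.exists_mul_of_mem_V T (ChevU.elemFacts hD K) hk (by omega) hg
      have h1 : t * x * t⁻¹ = x := by rw [← hc]; group
      have h2 : ChevU.xu T (ChevU.elemFacts hD K) k (ev t ⟨k, by omega⟩ * a) * (t * v * t⁻¹) =
          ChevU.xu T (ChevU.elemFacts hD K) k a * v := by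
        have h3 := diag_mul_xU hD ht ⟨k, by omega⟩ a
        have h4 : t * ChevU.xu T (ChevU.elemFacts hD K) k a * t⁻¹ = ChevU.xu T (ChevU.elemFacts hD K) k (ev t ⟨k, by omega⟩ * a) := h3
        rw [← h4, ← e]
        conv_rhs => rw [← h1, e]
        group
      obtain ⟨h5, -⟩ := ChevU.eq_of_mul_eq T (ChevU.elemFacts hD K) hk (by omega) (diag_conj_V hD ht (k + 1) v hv) hv h2
      have h6 : (ev t ⟨k, by omega⟩ - 1) * a = 0 := by rw [sub_mul, h5, one_mul, sub_self]
      rcases mul_eq_zero.1 h6 with h7 | h7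
      · exact absurd (sub_eq_zero.1 h7) (hreg _)
      · apply ih (k + 1) (by omega) (by omega)
        rw [e, h7, ChevU.xu_zero, one_mul]; exact hv
  exact key T.half T.half le_rfl (by omega) hx

end

end Cfsg.Agent.ChevF
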