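import Cfsg.Agent.ChevF.Stab
import Mathlib.FieldTheory.Finite.Extension
import Mathlib.RingTheory.Polynomial.Cyclotomic.Basic

set_option autoImplicit false

/-!
Self-centralizing cyclic tori (helper19).
-/

namespace Cfsg.Agent.ChevF

open Cfsg.Lie Cfsg.Agent.Chev Cfsg.Agent.ChevGrp Matrix Polynomial

variable {D : ChevalleyDatum} (E : DData D)

section cent

variable {K : Type*} [Field K]

/-- the centralizer of a regular element with trivial stabilizer -/
theorem cent_eq (hD : D ∈ data) {t : GL D.Idx K} (ht : t ∈ D.diagonalSubgroup K)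
    (hst : ∀ v ∈ E.rp.wsys.W, (∀ s, ev t (v s) = ev t s) → v = 1)
    {y : GL D.Idx K} (hy : y ∈ D.group K) (hc : y * t = t * y) : y ∈ D.diagonalSubgroup K := by
  have hreg := regular_of_stab E hD ht hst
  obtain ⟨b, hb, n, hn, x, hx, e, h⟩ := fusion E hD hy
  have h1 : y * t * y⁻¹ = t := by rw [hc]; group
  obtain ⟨h2, h3, h4⟩ := h t ht (by rw [h1]; exact ht)
  rw [h1] at h2
  rw [h2] at h4
  have hx1 := cent_U hD ht hreg hx h3
  have hb1 := cent_U hD ht hreg hb h4
  obtain ⟨v, hv⟩ := RGrp.exists_act hn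
  have h5 : ∀ s, ev t (v s) = ev t s := by
    intro s
    have := N_conj_ev E hD hn hv ht s
    rwa [h2] at this
  have h6 := hst v hv.mem h5
  rw [h6] at hv
  have h7 := RGrp.mem_H_of_act_one hn hv
  rw [e, hx1, hb1, mul_one, one_mul]
  exact h7

end cent

section main

variable {F K : Type*} [Field F] [Fintype F] [Field K] [Fintype K]

lemma ev_W (hD : D ∈ data) {h : GL D.Idx K} (hh : h ∈ D.diagonalSubgroup K) {u : Equiv.Perm (Fin D.nroots)}
    (hu : u ∈ E.rp.wsys.W) {q : ℕ} (hj : ∀ j, ev h (u (E.rp.wsys.p j)) = ev h (E.rp.wsys.p j) ^ q) (s : Fin D.nroots) :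
    ev h (u s) = ev h s ^ q := by
  have G := good_of_mem hD
  have h0 := ev_ne_zero hD hh
  rw [ev_eq_prod E hD hh (u s), ev_eq_prod E hD hh s, ← Finset.prod_pow]
  have h1 : ∀ i : Fin D.rank, ev h (E.rp.wsys.p i) ^ (vec D (u s) i) =
      ∏ j, ev h (E.rp.wsys.p i) ^ (vec D (u (E.rp.wsys.p j)) i * vec D s j) := by
    intro i
    have h2 : vec D (u s) i = ∑ j : Fin D.rank, vec D (u (E.rp.wsys.p j)) i * vec D s j := congrFun (rv_W E G hu s) i
    rw [h2]
    have : ∀ (T : Finset (Fin D.rank)) (f : Fin D.rank → ℤ), ev h (E.rp.wsys.p i) ^ ∑ j ∈ T, f j = ∏ j ∈ T, ev h (E.rp.wsys.p i) ^ f j := by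
      classical
      intro T f
      induction T using Finset.induction_on with
      | empty => simp
      | insert j T hj ih => rw [Finset.prod_insert hj, Finset.sum_insert hj, zpow_add₀ (h0 _), ih]
    exact this _ _
  rw [Finset.prod_congr rfl (fun i _ => h1 i), Finset.prod_comm]
  refine Finset.prod_congr rfl fun j _ => ?_
  have h3 := hj j
  rw [ev_eq_prod E hD hh (u (E.rp.wsys.p j))] at h3
  rw [← zpow_natCast, ← _root_.zpow_mul, mul_comm (vec D s j), _root_.zpow_mul, zpow_natCast, ← h3, ← Finset.prod_zpow]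
  refine Finset.prod_congr rfl fun i _ => ?_
  rw [_root_.zpow_mul]

theorem torus_main (hD : D ∈ data) (ι : F →+* K) (σ : K →+* K) {q N d r : ℕ} [hr : Fact r.Prime]
    (hq0 : 0 < q) (hσ : ∀ t, σ t = t ^ q) (hι : ∀ t, σ (ι t) = ι t) (hfix : ∀ t, σ t = t → ∃ t₀, ι t₀ = t)
    (hK : Fintype.card K = q ^ N) (hWN : Nat.card E.rp.wsys.W ∣ N) (hN : 0 < N)
    (hord : orderOf (q : ZMod r) = d) (hdN : d ∣ N) (hdeg : d.totient = D.rank) (hd0 : 0 < d)
    (hW : ¬ r ∣ Nat.card E.rp.wsys.W) (hG : r ∣ Nat.card (D.group F))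
    (hTF : ∀ χ : ℕ → Fˣ, ChevU.torHom D F χ ∈ D.diagonalSubgroup F)
    (hTK : ∀ χ : ℕ → Kˣ, ChevU.torHom D K χ ∈ D.diagonalSubgroup K)
    (hcyc : ∀ ℓ : ℕ, ℓ.Prime → ℓ ∣ d → ¬ ℓ ^ 2 ∣ ((cyclotomic d ℤ).eval (q : ℤ)).natAbs) :
    ∃ T : Subgroup ↥(D.group F), IsCyclic ↥T ∧ Nat.card ↥T = ((cyclotomic d ℤ).eval (q : ℤ)).natAbs ∧
      Subgroup.centralizer (T : Set ↥(D.group F)) = T := by
  classical
  have G := good_of_mem hD
  haveI : Finite (GL D.Idx F) := inferInstance
  haveI : Finite (GL D.Idx K) := inferInstance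
  -- `r` divides `|K| - 1`
  have hqd : (q : ZMod r) ^ d = 1 := by rw [← hord]; exact pow_orderOf_eq_one _
  have hr1 : r ∣ Fintype.card K - 1 := by
    obtain ⟨k, hk⟩ := hdN
    have h1 : (q : ZMod r) ^ N = 1 := by rw [hk, pow_mul, hqd, one_pow]
    have h2 : 1 ≤ q ^ N := Nat.one_le_pow _ _ hq0
    rw [hK, ← ZMod.natCast_eq_zero_iff, Nat.cast_sub h2]
    push_cast
    rw [h1, sub_self]
  -- an element of order `r`
  obtain ⟨z, hz⟩ := exists_prime_orderOf_dvd_card' r hG
  set P : Subgroup (GL D.Idx F) := (Subgroup.zpowers z).map (D.group F).subtype with hP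
  have hPG : P ≤ D.group F := by
    rintro _ ⟨y, -, rfl⟩
    exact y.2
  have hPr : IsPGroup r ↥P := by
    apply IsPGroup.map
    apply IsPGroup.of_card (n := 1)
    rw [Nat.card_zpowers, hz, pow_one]
  have hzP : (z : GL D.Idx F) ∈ P := ⟨z, Subgroup.mem_zpowers z, rfl⟩
  obtain ⟨g, hg, h1, b, hb, n, hn, x, hx, hbnx, u, hu, hact, h2⟩ := exists_frame E hD hr1 hW ι hσ hι hPG hPr
  set t : GL D.Idx K := g⁻¹ * glMap D.Idx ι (z : GL D.Idx F) * g with ht_def
  have ht : t ∈ D.diagonalSubgroup K := h1 _ hzP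
  obtain ⟨h3, h4, h5⟩ := h2 _ hzP
  rw [← ht_def] at h3 h4 h5
  have htr : t ^ r = 1 := by
    have h6 : t ^ r = g⁻¹ * (glMap D.Idx ι (z : GL D.Idx F)) ^ r * g := by
      rw [ht_def]
      have := conj_pow (i := r) (a := g⁻¹) (b := glMap D.Idx ι (z : GL D.Idx F))
      rwa [inv_inv] at this
    have h7 : (z : GL D.Idx F) ^ r = 1 := by
      have := pow_orderOf_eq_one z
      rw [hz] at this
      exact congrArg Subtype.val this
    rw [h6, ← map_pow, h7, map_one]; group
  have ht1 : t ≠ 1 := by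
    intro h0
    have h6 : glMap D.Idx ι (z : GL D.Idx F) = 1 := by
      have : glMap D.Idx ι (z : GL D.Idx F) = g * t * g⁻¹ := by rw [ht_def]; group
      rw [this, h0]; group
    have h7 : z = 1 := by
      apply Subtype.ext
      apply glMap_injective ι
      rw [h6]; exact (map_one _).symm
    rw [h7, orderOf_one] at hz
    exact hr.out.one_lt.ne hz
  obtain ⟨ζ, hζ, a, ha⟩ := exists_log E hD hr1 ht htr
  -- the matrix of `u`
  set M := wm E u with hM
  have huN : u ^ Nat.card E.rp.wsys.W = 1 := by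
    have := pow_card_eq_one' (x := (⟨u, hu⟩ : E.rp.wsys.W))
    exact congrArg Subtype.val this
  have hMW : M ^ Nat.card E.rp.wsys.W = 1 := by rw [hM, ← wm_pow E G hu, huN, wm_one E G]
  have hMN : M ^ N = 1 := by
    obtain ⟨k, hk⟩ := hWN
    rw [hk, pow_mul, hMW, one_pow]
  obtain ⟨v, hv0, hv⟩ := exists_vec (M := M) Nat.card_pos hMW hW (log_ne_zero E hD hr.out.ne_zero hζ ht ht1 ha)
    (log_eigen E hD hr.out.ne_zero hζ ht ha h3)
  rw [hord] at hv
  set Mq := M.map (Int.castRingHom ℚ) with hMq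
  have hirr : Irreducible (cyclotomic d ℚ) := cyclotomic.irreducible_rat hd0
  have hmonic : (cyclotomic d ℚ).Monic := cyclotomic.monic d ℚ
  have hdegq : (cyclotomic d ℚ).natDegree = D.rank := by rw [natDegree_cyclotomic, hdeg]
  have haev : ∀ p : ℤ[X], (aeval M p).map (Int.castRingHom ℚ) = aeval Mq (p.map (Int.castRingHom ℚ)) := fun p =>
    Polynomial.map_aeval_eq_aeval_map (R := ℤ) (S := Matrix (Fin D.rank) (Fin D.rank) ℤ) (T := ℚ)
        (U := Matrix (Fin D.rank) (Fin D.rank) ℚ) (φ := Int.castRingHom ℚ)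
        (ψ := RingHom.mapMatrix (m := Fin D.rank) (Int.castRingHom ℚ)) (by ext; simp) p M
  have hvq : (aeval Mq (cyclotomic d ℚ)) *ᵥ (fun i => ((v i : ℤ) : ℚ)) = 0 := by
    rw [← map_cyclotomic d (Int.castRingHom ℚ), ← haev]
    funext i
    have h6 := congrFun hv i
    simp only [mulVec, dotProduct, Pi.zero_apply] at h6 ⊢
    have h7 := congrArg (Int.cast : ℤ → ℚ) h6
    push_cast at h7
    exact h7
  have hvq0 : (fun i => ((v i : ℤ) : ℚ)) ≠ 0 := by
    intro h0
    apply hv0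
    funext i
    have := congrFun h0 i
    simpa using this
  have hPM := aeval_eq_zero_of_irreducible hirr hdegq hvq0 hvq
  have hcharq := charpoly_eq_of_irreducible hirr hmonic hdegq hvq0 hvq
  have hchar : M.charpoly = cyclotomic d ℤ := by
    apply Polynomial.map_injective (Int.castRingHom ℚ) Int.cast_injective
    rw [← Matrix.charpoly_map, map_cyclotomic]
    exact hcharq
  -- trivial stabilizer
  have hqinj : ∀ x y : K, x ^ q = y ^ q → x = y := by
    intro x y hxy
    rw [← hσ, ← hσ] at hxy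
    exact σ.injective hxy
  have hst : ∀ v ∈ E.rp.wsys.W, (∀ s, ev t (v s) = ev t s) → v = 1 := fun v hv hvt =>
    stab_trivial E hD hζ ht ht1 ha hu hqinj h3 hW hirr hdegq hPM hv hvt
  have hreg := regular_of_stab E hD ht hst
  have hb1 : b = 1 := cent_U hD ht hreg hb h5
  have hx1 : x = 1 := by
    refine cent_U hD (pow_mem ht q) (fun s => ?_) hx h4
    rw [ev_pow hD ht]
    intro h0
    apply hreg s
    apply hqinj
    rw [h0, one_pow]
  have hgn : g⁻¹ * glMap D.Idx σ g = n := by rw [hbnx, hb1, hx1, one_mul, mul_one]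
  have hσι : ∀ y : GL D.Idx F, glMap D.Idx σ (glMap D.Idx ι y) = glMap D.Idx ι y := by
    intro y
    apply Units.ext
    rw [glMap_coe, glMap_coe]
    ext i j
    simp [hι]
  -- the torus
  let T : Subgroup ↥(D.group F) :=
    (D.diagonalSubgroup K).comap ((MulAut.conj g⁻¹).toMonoidHom.comp ((glMap D.Idx ι).comp (D.group F).subtype))
  have hT : ∀ y : ↥(D.group F), y ∈ T ↔ g⁻¹ * glMap D.Idx ι (y : GL D.Idx F) * g ∈ D.diagonalSubgroup K := by
    intro y
    show (MulAut.conj g⁻¹) (glMap D.Idx ι (y : GL D.Idx F)) ∈ D.diagonalSubgroup K ↔ _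
    rw [MulAut.conj_apply, inv_inv]
  have hzT : z ∈ T := (hT z).2 ht
  have hrel : ∀ y ∈ T, ∀ s, ev (g⁻¹ * glMap D.Idx ι ((y : ↥(D.group F)) : GL D.Idx F) * g) (u s) =
      ev (g⁻¹ * glMap D.Idx ι (y : GL D.Idx F) * g) s ^ q := by
    intro y hy s
    set k := g⁻¹ * glMap D.Idx ι (y : GL D.Idx F) * g with hk
    have hk1 : k ∈ D.diagonalSubgroup K := (hT y).1 hy
    have h6 : n * k ^ q * n⁻¹ = k := by
      rw [← glMap_frob hD hσ hk1, ← hgn, hk]
      simp only [map_mul, map_inv, hσι]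
      group
    have h7 := N_conj_ev E hD hn hact (pow_mem hk1 q) s
    rw [h6, ev_pow hD hk1] at h7
    exact h7
  -- coordinates
  set A : Matrix (Fin D.rank) (Fin D.rank) ℤ := (q : ℤ) • (1 : Matrix (Fin D.rank) (Fin D.rank) ℤ) - M with hA
  let f : T →* (Fin D.rank → Kˣ) :=
    { toFun := fun y i => Units.mk0 (ev (g⁻¹ * glMap D.Idx ι ((y : ↥(D.group F)) : GL D.Idx F) * g) (E.rp.wsys.p i))
        (ev_ne_zero hD ((hT y).1 y.2) _)
      map_one' := by
        funext i
        apply Units.ext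
        have : g⁻¹ * glMap D.Idx ι (((1 : T) : ↥(D.group F)) : GL D.Idx F) * g = 1 := by
          rw [Subgroup.coe_one, Subgroup.coe_one, map_one]; group
        simp only [this, ev_one, Units.val_mk0, Pi.one_apply, Units.val_one]
      map_mul' := fun y y' => by
        funext i
        apply Units.ext
        have : g⁻¹ * glMap D.Idx ι (((y * y' : T) : ↥(D.group F)) : GL D.Idx F) * g =
            (g⁻¹ * glMap D.Idx ι ((y : ↥(D.group F)) : GL D.Idx F) * g) * (g⁻¹ * glMap D.Idx ι ((y' : ↥(D.group F)) : GL D.Idx F) * g) := by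
          rw [Subgroup.coe_mul, Subgroup.coe_mul, map_mul]; group
        simp only [this, Units.val_mk0, Pi.mul_apply, Units.val_mul]
        exact ev_mul hD ((hT y).1 y.2) ((hT y').1 y'.2) _ }
  have hf : ∀ (y : T) i, ((f y i : Kˣ) : K) = ev (g⁻¹ * glMap D.Idx ι ((y : ↥(D.group F)) : GL D.Idx F) * g) (E.rp.wsys.p i) :=
    fun y i => rfl
  have hfinj : Function.Injective f := by
    intro y y' hyy
    have h6 := ev_ext E hD ((hT y).1 y.2) ((hT y').1 y'.2) (fun i => by
      rw [← hf, ← hf, hyy])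
    have h7 : glMap D.Idx ι ((y : ↥(D.group F)) : GL D.Idx F) = glMap D.Idx ι ((y' : ↥(D.group F)) : GL D.Idx F) := by
      have := congrArg (fun w => g * w * g⁻¹) h6
      simpa [mul_assoc] using this
    exact Subtype.ext (Subtype.ext (glMap_injective ι h7))
  have hmonA : ∀ c : Fin D.rank → Kˣ, c ∈ (ChevU.mon (A := Kˣ) A).ker ↔ ∀ j, ∏ i, c i ^ (M i j) = c j ^ q := by
    intro c
    rw [MonoidHom.mem_ker]
    have h6 : ∀ j, ChevU.mon A c j = c j ^ q * (∏ i, c i ^ (M i j))⁻¹ := by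
      intro j
      rw [ChevU.mon_apply]
      have h7 : ∀ i, c i ^ A i j = c i ^ ((q : ℤ) * (1 : Matrix (Fin D.rank) (Fin D.rank) ℤ) i j) * (c i ^ M i j)⁻¹ := by
        intro i
        rw [← _root_.zpow_neg, ← _root_.zpow_add]
        congr 1
      rw [Finset.prod_congr rfl (fun i _ => h7 i), Finset.prod_mul_distrib, Finset.prod_inv_distrib]
      congr 1
      rw [Finset.prod_eq_single j]
      · rw [Matrix.one_apply_eq, mul_one, zpow_natCast]
      · intro i _ hij
        rw [Matrix.one_apply_ne hij, mul_zero, _root_.zpow_zero]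
      · intro h; exact absurd (Finset.mem_univ j) h
    constructor
    · intro h7 j
      have h8 := congrFun h7 j
      rw [h6, Pi.one_apply, mul_inv_eq_one] at h8
      exact h8.symm
    · intro h7
      funext j
      rw [h6, Pi.one_apply, mul_inv_eq_one, h7]
  have hrange : f.range = (ChevU.mon (A := Kˣ) A).ker := by
    ext c
    rw [hmonA]
    constructor
    · rintro ⟨y, rfl⟩ j
      apply Units.ext
      have h6 := hrel y y.2 (E.rp.wsys.p j)
      rw [ev_eq_prod E hD ((hT y).1 y.2) (u (E.rp.wsys.p j))] at h6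
      simp only [Units.coe_prod, Units.val_zpow_eq_zpow_val, Units.val_pow_eq_pow_val, hf]
      exact h6
    · intro hc
      -- the diagonal element
      set k : GL D.Idx K := ChevU.torHom D K (ChevU.extHom D K c) with hk
      have hk1 : k ∈ D.diagonalSubgroup K := hTK _
      have hkp : ∀ i, ev k (E.rp.wsys.p i) = ((c i : Kˣ) : K) := by
        intro i
        rw [hk, ev_torHom, p_val, ChevU.chr_ext_simple G c i.2]
      have h6 : ∀ s, ev k (u s) = ev k s ^ q := by
        apply ev_W E hD hk1 hu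
        intro j
        rw [ev_eq_prod E hD hk1 (u (E.rp.wsys.p j))]
        simp only [hkp]
        have h7 := congrArg (Units.val) (hc j)
        simp only [Units.coe_prod, Units.val_zpow_eq_zpow_val, Units.val_pow_eq_pow_val] at h7
        exact h7
      have h8 : n * k ^ q * n⁻¹ = k := by
        apply ev_ext E hD (RGrp.N_conj_H hn (pow_mem hk1 q)) hk1
        intro i
        have h9 := N_conj_ev E hD hn hact (pow_mem hk1 q) (u⁻¹ (E.rp.wsys.p i))
        have h10 : u (u⁻¹ (E.rp.wsys.p i)) = E.rp.wsys.p i := u.apply_symm_apply _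
        rw [h10] at h9
        rw [h9, ev_pow hD hk1, ← h6, h10]
      have h11 : glMap D.Idx σ (g * k * g⁻¹) = g * k * g⁻¹ := by
        rw [map_mul, map_mul, map_inv, glMap_frob hD hσ hk1]
        have h12 : glMap D.Idx σ g = g * n := by rw [← hgn]; group
        rw [h12]
        calc g * n * k ^ q * (g * n)⁻¹ = g * (n * k ^ q * n⁻¹) * g⁻¹ := by group
          _ = g * k * g⁻¹ := by rw [h8]
      obtain ⟨y, hy, hy2⟩ := fixed_group hD E ι σ hfix hTF
        (mul_mem (mul_mem hg (H_le_group E G hk1)) (inv_mem hg)) h11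
      have h13 : g⁻¹ * glMap D.Idx ι y * g = k := by rw [hy2]; group
      refine ⟨⟨⟨y, hy⟩, (hT _).2 (by rw [h13]; exact hk1)⟩, ?_⟩
      funext i
      apply Units.ext
      rw [hf]
      show ev (g⁻¹ * glMap D.Idx ι y * g) _ = _
      rw [h13, hkp]
  let e : T ≃* (ChevU.mon (A := Kˣ) A).ker := (MonoidHom.ofInjective hfinj).trans (MulEquiv.subgroupCongr hrange)
  -- the order
  have hcardK : (Nat.card Kˣ : ℤ) = (q : ℤ) ^ N - 1 := by
    rw [Nat.card_units, Nat.card_eq_fintype_card, hK, Nat.cast_sub (Nat.one_le_pow _ _ hq0)]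
    push_cast; ring
  have hcomm : Commute ((q : ℤ) • (1 : Matrix (Fin D.rank) (Fin D.rank) ℤ)) M := by
    rw [Commute, SemiconjBy, smul_mul_assoc, one_mul, mul_smul_comm, mul_one]
  have hpowq : ((q : ℤ) • (1 : Matrix (Fin D.rank) (Fin D.rank) ℤ)) ^ N - M ^ N = (Nat.card Kˣ : ℤ) • (1 : Matrix (Fin D.rank) (Fin D.rank) ℤ) := by
    rw [hMN, _root_.smul_pow, one_pow, hcardK, sub_smul, one_smul]
  have hAB := hcomm.mul_geom_sum₂ N
  rw [hpowq] at hAB
  have hBA := hcomm.geom_sum₂_mul N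
  rw [hpowq] at hBA
  have hdet : A.det = (cyclotomic d ℤ).eval (q : ℤ) := by
    rw [← hchar, Matrix.eval_charpoly, hA, Matrix.smul_one_eq_diagonal, Matrix.scalar_apply]
  have hcard : Nat.card (ChevU.mon (A := Kˣ) A).ker = ((cyclotomic d ℤ).eval (q : ℤ)).natAbs := by
    rw [card_ker_mon_of_mul hAB hBA, hdet]
  have hcyclic : IsCyclic (ChevU.mon (A := Kˣ) A).ker := by
    apply isCyclic_of_torsion
    intro ℓ hℓ
    haveI : Fact ℓ.Prime := ⟨hℓ⟩
    by_cases hℓd : ℓ ∣ d
    · set S := (powMonoidHom ℓ : (ChevU.mon (A := Kˣ) A).ker →* (ChevU.mon (A := Kˣ) A).ker).ker with hS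
      have h6 : IsPGroup ℓ S := by
        intro y
        refine ⟨1, ?_⟩
        apply Subtype.ext
        rw [pow_one]
        exact y.2
      obtain ⟨k, hk⟩ := IsPGroup.iff_card.1 h6
      rw [hk]
      have h7 : ℓ ^ k ∣ ((cyclotomic d ℤ).eval (q : ℤ)).natAbs := by
        rw [← hk, ← hcard]; exact Subgroup.card_subgroup_dvd_card S
      have h8 : k ≤ 1 := by
        by_contra hcon
        exact hcyc ℓ hℓ hℓd ((pow_dvd_pow ℓ (by omega)).trans h7)
      calc ℓ ^ k ≤ ℓ ^ 1 := Nat.pow_le_pow_right hℓ.pos h8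
        _ = ℓ := pow_one ℓ
    · exact card_torsion_le (finrank_ker_le hchar hℓd q)
  refine ⟨T, ?_, ?_, ?_⟩
  · exact isCyclic_of_injective e.toMonoidHom e.injective
  · rw [← hcard]; exact Nat.card_congr e.toEquiv
  · ext y
    rw [Subgroup.mem_centralizer_iff]
    constructor
    · intro hy
      rw [hT]
      have h6 := hy z hzT
      apply cent_eq E hD ht hst (mul_mem (mul_mem (inv_mem hg) (glMap_mem ι y.2)) hg)
      have h7 : glMap D.Idx ι (z : GL D.Idx F) * glMap D.Idx ι (y : GL D.Idx F) =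
          glMap D.Idx ι (y : GL D.Idx F) * glMap D.Idx ι (z : GL D.Idx F) := by
        rw [← map_mul, ← map_mul, ← Subgroup.coe_mul, ← Subgroup.coe_mul, h6]
      rw [ht_def]
      calc g⁻¹ * glMap D.Idx ι (y : GL D.Idx F) * g * (g⁻¹ * glMap D.Idx ι (z : GL D.Idx F) * g)
          = g⁻¹ * (glMap D.Idx ι (y : GL D.Idx F) * glMap D.Idx ι (z : GL D.Idx F)) * g := by group
        _ = g⁻¹ * (glMap D.Idx ι (z : GL D.Idx F) * glMap D.Idx ι (y : GL D.Idx F)) * g := by rw [h7]
        _ = _ := by group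
    · intro hy y' hy'
      have h6 := diag_comm hD ((hT y').1 hy') ((hT y).1 hy)
      apply Subtype.ext
      apply glMap_injective ι
      rw [Subgroup.coe_mul, Subgroup.coe_mul, map_mul, map_mul]
      calc glMap D.Idx ι (y' : GL D.Idx F) * glMap D.Idx ι (y : GL D.Idx F)
          = g * ((g⁻¹ * glMap D.Idx ι (y' : GL D.Idx F) * g) * (g⁻¹ * glMap D.Idx ι (y : GL D.Idx F) * g)) * g⁻¹ := by group
        _ = g * ((g⁻¹ * glMap D.Idx ι (y : GL D.Idx F) * g) * (g⁻¹ * glMap D.Idx ι (y' : GL D.Idx F) * g)) * g⁻¹ := by rw [h6]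
        _ = _ := by group

end main

end Cfsg.Agent.ChevF
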